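import Cfsg.Prelude.Def_LocalEven
import Cfsg.Agent.Lib.LocalEven.ThompsonDihedral
import Cfsg.Agent.Lib.ZJ.RealBase
import Cfsg.Agent.Lib.Offender.Involves

/-!
# Dihedral sections of order `2p`
-/

set_option autoImplicit false
set_option linter.style.haveILetI false

namespace CfsgLib.DihedralInvolved

open CfsgLib.Offender (involves_of_hom exists_hom_of_involves)

variable {G : Type*} [Group G] [Finite G] {p : ℕ} [hp : Fact p.Prime]

theorem involves_of_inverted (hp2 : p ≠ 2) {x y : G} (hx : ∃ k, orderOf x = 2 ^ k)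
    (hy : ∃ k, orderOf y = p ^ k) (hy1 : y ≠ 1) (hxy : x * y * x⁻¹ = y⁻¹) :
    Cfsg.Involves (DihedralGroup p) G := by
  obtain ⟨j, hj⟩ := hy
  have hj0 : j ≠ 0 := fun h => hy1 (orderOf_eq_one_iff.mp (by rw [hj, h, pow_zero]))
  set z := y ^ p ^ (j - 1) with hz
  have hzo : orderOf z = p := by
    have e : p ^ j = p * p ^ (j - 1) := by rw [← pow_succ']; congr 1; omega
    rw [hz, orderOf_pow' _ (pow_ne_zero _ hp.out.ne_zero), hj, e,
      Nat.gcd_eq_right (dvd_mul_left _ _), Nat.mul_div_cancel _ (pow_pos hp.out.pos _)]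
  have hxz : x * z * x⁻¹ = z⁻¹ := by rw [hz, ← conj_pow, hxy, inv_pow]
  set K := Subgroup.zpowers x ⊔ Subgroup.zpowers z with hK
  have hxK : x ∈ K := Subgroup.mem_sup_left (Subgroup.mem_zpowers x)
  have hzK : z ∈ K := Subgroup.mem_sup_right (Subgroup.mem_zpowers z)
  set x' : K := ⟨x, hxK⟩
  set z' : K := ⟨z, hzK⟩
  set R := Subgroup.zpowers (x' ^ 2) with hR
  have hcz : Commute (x ^ 2) z := by
    show x ^ 2 * z = z * x ^ 2
    rw [← mul_inv_eq_iff_eq_mul]
    calc x ^ 2 * z * (x ^ 2)⁻¹ = x * (x * z * x⁻¹) * x⁻¹ := by rw [pow_two]; group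
      _ = x * z⁻¹ * x⁻¹ := by rw [hxz]
      _ = (x * z * x⁻¹)⁻¹ := by group
      _ = z := by rw [hxz, inv_inv]
  have hgen : Subgroup.zpowers x' ⊔ Subgroup.zpowers z' = ⊤ := by
    apply Subgroup.map_injective K.subtype_injective
    rw [Subgroup.map_sup, MonoidHom.map_zpowers, MonoidHom.map_zpowers, ← MonoidHom.range_eq_map,
      Subgroup.range_subtype]
    rfl
  haveI hRn : R.Normal := by
    rw [← Subgroup.normalizer_eq_top_iff, eq_top_iff, ← hgen]
    refine le_trans ?_ (Subgroup.centralizer_le_normalizer _)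
    rw [Subgroup.le_centralizer_iff]
    refine Subgroup.zpowers_le.mpr ?_
    intro u hu
    have hle : Subgroup.zpowers x' ⊔ Subgroup.zpowers z' ≤ Subgroup.centralizer ({x' ^ 2} : Set K) :=
      sup_le (Subgroup.zpowers_le.mpr (Subgroup.mem_centralizer_singleton_iff.mpr
          ((Commute.refl x').pow_right 2).eq))
        (Subgroup.zpowers_le.mpr (Subgroup.mem_centralizer_singleton_iff.mpr
          (Subtype.ext hcz.eq.symm)))
    exact Subgroup.mem_centralizer_singleton_iff.mp (hle hu)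
  let q := QuotientGroup.mk' R
  have hz'1 : q z' ≠ 1 := fun h => by
    obtain ⟨i, hi⟩ := Subgroup.mem_zpowers_iff.mp ((QuotientGroup.eq_one_iff _).mp h)
    have hi' : (x ^ 2) ^ i = z := congrArg Subtype.val hi
    have hc : Commute x z := hi' ▸ ((Commute.refl x).pow_right 2).zpow_right i
    rw [hc.eq, mul_inv_cancel_right] at hxz
    have h2 : z ^ 2 = 1 := by rw [pow_two]; nth_rw 1 [hxz]; exact inv_mul_cancel z
    have h3 := orderOf_dvd_of_pow_eq_one h2
    rw [hzo] at h3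
    exact hp2 ((Nat.prime_dvd_prime_iff_eq hp.out Nat.prime_two).mp h3)
  have hzq : orderOf (q z') = p := by
    refine orderOf_eq_prime ?_ hz'1
    rw [← map_pow, show z' ^ p = 1 from Subtype.ext (show z ^ p = 1 by rw [← hzo, pow_orderOf_eq_one]),
      map_one]
  have hxq : orderOf (q x') = 2 := by
    refine orderOf_eq_prime ?_ fun h => hz'1 ?_
    · rw [← map_pow]
      exact (QuotientGroup.eq_one_iff _).mpr (Subgroup.mem_zpowers _)
    · have h1 : q (x' * z' * x'⁻¹) = q z'⁻¹ := congrArg q (Subtype.ext hxz)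
      rw [map_mul, map_mul, map_inv, map_inv, h, one_mul, inv_one, mul_one] at h1
      have h2 : q z' ^ 2 = 1 := by rw [pow_two]; nth_rw 1 [h1]; exact inv_mul_cancel _
      have h3 := orderOf_dvd_of_pow_eq_one h2
      rcases (Nat.dvd_prime Nat.prime_two).mp h3 with h4 | h4
      · exact orderOf_eq_one_iff.mp h4
      · exfalso; rw [hzq] at h4; exact hp2 h4
  have htop : Subgroup.zpowers (q x') ⊔ Subgroup.zpowers (q z') = ⊤ := by
    rw [← MonoidHom.map_zpowers, ← MonoidHom.map_zpowers, ← Subgroup.map_sup, hgen,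
      Subgroup.map_top_of_surjective _ (QuotientGroup.mk'_surjective R)]
  obtain ⟨e⟩ := ThompsonDihedral.dihedral_iso hz'1 (by rw [hzq]; exact hp.out.odd_of_ne_two hp2) hxq
    (by rw [← map_inv, ← map_inv, ← map_mul, ← map_mul]; exact congrArg q (Subtype.ext hxz))
  rw [hzq] at e
  exact involves_of_hom
    ((e.toMonoidHom.comp (Subgroup.topEquiv.symm.trans (MulEquiv.subgroupCongr htop.symm)).toMonoidHom).comp q)
    ((e.surjective.comp (MulEquiv.surjective _)).comp (QuotientGroup.mk'_surjective R))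

theorem exists_normalizing_of_involves (hp2 : p ≠ 2) (h : Cfsg.Involves (DihedralGroup p) G) :
    ∃ (x : G) (P : Subgroup G), (∃ k : ℕ, orderOf x = 2 ^ k) ∧ IsPGroup p ↥P ∧
      x ∈ Subgroup.normalizer (P : Set G) ∧ x ∉ Subgroup.centralizer (P : Set G) := by
  haveI : NeZero p := ⟨hp.out.ne_zero⟩
  obtain ⟨K, ψ, hψ⟩ := exists_hom_of_involves h
  set C := Subgroup.zpowers (DihedralGroup.r (1 : ZMod p)) with hC
  have hCcard : Nat.card C = p := by rw [hC, Nat.card_zpowers, DihedralGroup.orderOf_r_one]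
  have hCidx : C.index = 2 := by
    have := C.card_mul_index
    rw [hCcard, DihedralGroup.nat_card, mul_comm 2] at this
    exact Nat.eq_of_mul_eq_mul_left hp.out.pos this
  haveI : C.Normal := Subgroup.normal_of_index_eq_two hCidx
  set M := C.comap ψ with hM
  have hMidx : M.index = 2 := by rw [hM, Subgroup.index_comap_of_surjective _ hψ, hCidx]
  obtain ⟨Q⟩ := (inferInstance : Nonempty (Sylow p M))
  have hF := Sylow.normalizer_sup_eq_top Q
  set Q' := (Q : Subgroup M).map M.subtype with hQ'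
  obtain ⟨n, hn, hnM⟩ : ∃ n ∈ Subgroup.normalizer (Q' : Set K), n ∉ M := by
    by_contra hcon
    push Not at hcon
    rw [sup_of_le_right (show Subgroup.normalizer (Q' : Set K) ≤ M from hcon)] at hF
    rw [hF, Subgroup.index_top] at hMidx
    exact absurd hMidx (by norm_num)
  obtain ⟨m, hm, k, hk⟩ := CfsgLib.ZJ.exists_two_part n
  set x := n ^ m
  have hxM : x ∉ M := by
    obtain ⟨t, rfl⟩ := hm
    intro hx
    refine hnM ?_
    have h2 : n * n ∈ M := Subgroup.mul_self_mem_of_index_two hMidx n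
    have h3 : (n * n) ^ t * n ∈ M := by
      rwa [← pow_two, ← pow_mul, ← pow_succ]
    exact (M.mul_mem_cancel_left (pow_mem h2 t)).mp h3
  obtain ⟨k', -, hk'⟩ := (Nat.dvd_prime_pow Nat.prime_two).mp
    (orderOf_dvd_of_pow_eq_one (show (x : G) ^ 2 ^ k = 1 from congrArg Subtype.val hk))
  refine ⟨x, Q'.map K.subtype, ⟨k', hk'⟩, (Q.2.map M.subtype).map K.subtype, ?_, ?_⟩
  · have hxN : x ∈ Subgroup.normalizer (Q' : Set K) := pow_mem hn m
    exact Subgroup.le_normalizer_map K.subtype ⟨x, hxN, rfl⟩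
  · intro hx
    -- the image of `Q` is the rotation group
    have hQim : (Q : Subgroup M).map (ψ.subgroupComap C) = ⊤ := by
      have hs := ψ.subgroupComap_surjective_of_surjective C hψ
      set Q2 := Q.mapSurjective hs
      refine Subgroup.eq_top_of_card_eq _ ?_
      rw [show (Q : Subgroup M).map (ψ.subgroupComap C) = (Q2 : Subgroup C) from rfl,
        Sylow.card_eq_multiplicity Q2, hCcard, hp.out.factorization_self, pow_one]
    obtain ⟨q, hq, hq1⟩ : (⟨DihedralGroup.r (1 : ZMod p), Subgroup.mem_zpowers _⟩ : C) ∈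
        (Q : Subgroup M).map (ψ.subgroupComap C) := hQim ▸ Subgroup.mem_top _
    have hq' : ψ (q : K) = DihedralGroup.r 1 := congrArg Subtype.val hq1
    have hc : Commute x (q : K) := Subtype.ext
      (hx ((q : K) : G) ⟨(q : K), ⟨q, hq, rfl⟩, rfl⟩).symm
    have hc' := hc.map ψ
    rw [hq'] at hc'
    rcases hd : ψ x with i | i
    · refine hxM ?_
      show ψ x ∈ C
      rw [hd]
      exact Subgroup.mem_zpowers_iff.mpr ⟨(i.val : ℤ), by
        rw [zpow_natCast, DihedralGroup.r_one_pow, ZMod.natCast_val, ZMod.cast_id]⟩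
    · rw [hd] at hc'
      have h1 := hc'.eq
      simp only [DihedralGroup.sr_mul_r, DihedralGroup.r_mul_sr, DihedralGroup.sr.injEq] at h1
      have h2 : ((2 : ℕ) : ZMod p) = 0 := by push_cast; linear_combination h1
      rw [ZMod.natCast_eq_zero_iff] at h2
      exact hp2 ((Nat.prime_dvd_prime_iff_eq hp.out Nat.prime_two).mp h2)

theorem involves_iff (hp2 : p ≠ 2) :
    (Cfsg.Involves (DihedralGroup p) G ↔ ∃ (x : G) (P : Subgroup G), (∃ k : ℕ, orderOf x = 2 ^ k) ∧
      IsPGroup p ↥P ∧ x ∈ Subgroup.normalizer (P : Set G) ∧ x ∉ Subgroup.centralizer (P : Set G)) ∧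
    (Cfsg.Involves (DihedralGroup p) G ↔ ∃ x y : G, (∃ k : ℕ, orderOf x = 2 ^ k) ∧
      (∃ k : ℕ, orderOf y = p ^ k) ∧ y ≠ 1 ∧ x * y * x⁻¹ = y⁻¹) := by
  have h23 : (∃ (x : G) (P : Subgroup G), (∃ k : ℕ, orderOf x = 2 ^ k) ∧ IsPGroup p ↥P ∧
      x ∈ Subgroup.normalizer (P : Set G) ∧ x ∉ Subgroup.centralizer (P : Set G)) →
      ∃ x y : G, (∃ k : ℕ, orderOf x = 2 ^ k) ∧ (∃ k : ℕ, orderOf y = p ^ k) ∧ y ≠ 1 ∧
        x * y * x⁻¹ = y⁻¹ := by
    rintro ⟨x, P, ⟨k, hk⟩, hP, hN, hC⟩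
    obtain ⟨y, hy, t, ht, hy1, hty⟩ := CfsgLib.ZJ.exists_inverted_of_not_centralize k x
      (by rw [← hk, pow_orderOf_eq_one]) hN hC
    obtain ⟨k', -, hk'⟩ := (Nat.dvd_prime_pow Nat.prime_two).mp
      (hk ▸ orderOf_dvd_of_mem_zpowers ht : orderOf t ∣ 2 ^ k)
    obtain ⟨j, hj⟩ := IsPGroup.iff_orderOf.mp hP ⟨y, hy⟩
    exact ⟨t, y, ⟨k', hk'⟩, ⟨j, by rw [← hj, ← Subgroup.orderOf_coe]⟩, hy1, hty⟩
  refine ⟨⟨exists_normalizing_of_involves hp2, fun h => ?_⟩,
    fun h => h23 (exists_normalizing_of_involves hp2 h), fun h => ?_⟩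
  · obtain ⟨x, y, hx, hy, hy1, hxy⟩ := h23 h
    exact involves_of_inverted hp2 hx hy hy1 hxy
  · obtain ⟨x, y, hx, hy, hy1, hxy⟩ := h
    exact involves_of_inverted hp2 hx hy hy1 hxy

end CfsgLib.DihedralInvolved
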