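import Cfsg.Prelude.Def_Solvable
import Cfsg.Agent.Lib.LocalEven.ThompsonDihedral
import Cfsg.Agent.Lib.Fitting.Basic

/-!
# Involutions in a dihedral extension of a two-group
-/

set_option autoImplicit false
set_option linter.style.haveILetI false

open scoped Pointwise commutatorElement

namespace CfsgLib.DihedralModCore

universe u

theorem aux : ∀ n : ℕ, ∀ (G : Type u) [Group G] [Finite G] (N : Subgroup G) [N.Normal],
    Nat.card N = n → IsPGroup 2 N → ∀ (r a : G), Odd (orderOf r) → a * a = 1 →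
      a * r * a⁻¹ = r⁻¹ → (∀ x ∈ N, Commute x r → x = 1) →
      Nat.card ↥(N ⊓ Subgroup.centralizer ({a} : Set G)) ^ 2 = Nat.card N ∧
      ∀ x ∈ N, a * x * a⁻¹ = x⁻¹ → ∃ m ∈ N, m * a * m⁻¹ = a * x := by
  intro n
  induction n using Nat.strong_induction_on with
  | _ n ih =>
    intro G _ _ N _ hn hN r a hr ha har hfix
    have hainv : a⁻¹ = a := inv_eq_of_mul_eq_one_right ha
    by_cases hN1 : N = ⊥
    · subst hN1
      refine ⟨by simp, fun x hx _ => ⟨1, one_mem _, by rw [Subgroup.mem_bot.mp hx]; group⟩⟩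
    -- a nontrivial central term
    haveI : Fact (Nat.Prime 2) := ⟨Nat.prime_two⟩
    haveI : Nontrivial N := (Subgroup.nontrivial_iff_ne_bot N).mpr hN1
    set Z := (Subgroup.center N).map N.subtype with hZ
    haveI hZn : Z.Normal := PSolvable.normal_map_of_characteristic N _
    have hZN : Z ≤ N := Subgroup.map_subtype_le _
    have hZ1 : Z ≠ ⊥ := by
      rw [hZ, ne_eq, Subgroup.map_eq_bot_iff_of_injective _ N.subtype_injective]
      exact (Subgroup.nontrivial_iff_ne_bot _).mp hN.center_nontrivial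
    have hZc : ∀ z ∈ Z, ∀ x ∈ N, Commute z x := by
      rintro _ ⟨z, hz, rfl⟩ x hx
      exact (congrArg Subtype.val (Subgroup.mem_center_iff.mp hz ⟨x, hx⟩)).symm
    obtain ⟨r', hr'⟩ : ∃ r', r' = a * r := ⟨_, rfl⟩
    have har' : ∀ y : G, a * y * a⁻¹ = y⁻¹ → r' * y * r'⁻¹ = y⁻¹ → Commute y r := by
      intro y h1 h2
      have h3 : r * y * r⁻¹ = a⁻¹ * y⁻¹ * a := by rw [← h2, hr']; group
      have h4 : a⁻¹ * y⁻¹ * a = y := by rw [← h1]; group
      exact (mul_inv_eq_iff_eq_mul.mp (h3.trans h4)).symm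
    have har'' : ∀ y : G, a * y * a⁻¹ = y → r' * y * r'⁻¹ = y → Commute y r := by
      intro y h1 h2
      have h3 : r * y * r⁻¹ = a⁻¹ * y * a := by
        conv_rhs => rw [← h2, hr']
        group
      have h4 : a⁻¹ * y * a = y := by
        conv_lhs => rw [← h1]
        group
      exact (mul_inv_eq_iff_eq_mul.mp (h3.trans h4)).symm
    -- statistics on `Z`
    have hZstat : Nat.card ↥(Z ⊓ Subgroup.centralizer ({a} : Set G)) ^ 2 = Nat.card Z ∧
        ∀ x ∈ Z, a * x * a⁻¹ = x⁻¹ → ∃ m ∈ Z, m * a * m⁻¹ = a * x := by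
      have hcomm : ∀ x ∈ Z, ∀ y ∈ Z, Commute x y := fun x hx y hy => hZc x hx y (hZN hy)
      have hcj : ∀ x ∈ Z, a * x * a⁻¹ ∈ Z := fun x hx => hZn.conj_mem x hx a
      have hcj' : ∀ x ∈ Z, r' * x * r'⁻¹ ∈ Z := fun x hx => hZn.conj_mem x hx r'
      let C : G → Subgroup G := fun b => Z ⊓ Subgroup.centralizer ({b} : Set G)
      let I : G → Subgroup G := fun b =>
        { carrier := {y | y ∈ Z ∧ b * y * b⁻¹ = y⁻¹}
          mul_mem' := fun {u v} hu hv => ⟨mul_mem hu.1 hv.1, by
            rw [mul_inv_rev, ← (hcomm _ (inv_mem hu.1) _ (inv_mem hv.1)).eq, ← hu.2, ← hv.2]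
            group⟩
          one_mem' := ⟨one_mem _, by group⟩
          inv_mem' := fun {u} hu => ⟨inv_mem hu.1, by
            rw [inv_inv, show b * u⁻¹ * b⁻¹ = (b * u * b⁻¹)⁻¹ by group, hu.2, inv_inv]⟩ }
      have hIle : ∀ b, I b ≤ Z := fun b y hy => hy.1
      haveI : IsMulCommutative Z := ⟨⟨fun u v => Subtype.ext (hcomm u u.2 v v.2).eq⟩⟩
      -- disjoint pairs
      have hprod : ∀ A B : Subgroup G, A ≤ Z → B ≤ Z → (∀ y ∈ A, y ∈ B → y = 1) →
          Nat.card A * Nat.card B ≤ Nat.card Z := by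
        intro A B hA hB hAB
        rw [← Nat.card_prod]
        refine Nat.card_le_card_of_injective (fun u : A × B => (⟨u.1 * u.2, mul_mem (hA u.1.2) (hB u.2.2)⟩ : Z)) ?_
        rintro ⟨u, v⟩ ⟨u', v'⟩ h
        have h' : (u : G) * v = u' * v' := congrArg Subtype.val h
        have e : (u' : G)⁻¹ * u = v' * (v : G)⁻¹ := by
          rw [eq_mul_inv_iff_mul_eq, mul_assoc, h', inv_mul_cancel_left]
        have := hAB _ (mul_mem (inv_mem u'.2) u.2) (e ▸ mul_mem v'.2 (inv_mem v.2))
        rw [inv_mul_eq_one] at this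
        obtain rfl : u' = u := Subtype.ext this
        obtain rfl : v = v' := Subtype.ext (mul_left_cancel h')
        rfl
      let f : Z →* ↥(C a) := MonoidHom.mk' (fun x => ⟨x * (a * x * a⁻¹), Subgroup.mem_inf.mpr
        ⟨mul_mem x.2 (hcj x x.2), Subgroup.mem_centralizer_singleton_iff.mpr (by
          rw [← mul_inv_eq_iff_eq_mul.mp (show a * ((x : G) * (a * x * a⁻¹)) * a⁻¹ = x * (a * x * a⁻¹) by
            rw [(hcomm _ x.2 _ (hcj x x.2)).eq]
            calc a * (a * (x : G) * a⁻¹ * x) * a⁻¹ = (a * a) * x * (a⁻¹ * (x * a⁻¹)) := by group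
              _ = _ := by rw [ha, one_mul, hainv, ← (hcomm _ x.2 _ (by simpa [hainv] using hcj x x.2)).eq]; group)])⟩⟩)
        fun x y => Subtype.ext (by
          show (x : G) * y * (a * (x * y) * a⁻¹) = x * (a * x * a⁻¹) * (y * (a * y * a⁻¹))
          rw [show a * ((x : G) * y) * a⁻¹ = (a * x * a⁻¹) * (a * y * a⁻¹) by group,
            mul_assoc (x : G), ← mul_assoc (y : G), ← (hcomm _ (hcj x x.2) _ y.2).eq]
          group)
      have hker : Nat.card f.ker ≤ Nat.card (I a) :=
        Nat.card_le_card_of_injective (fun x : f.ker => (⟨((x : Z) : G), (x : Z).2,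
            eq_inv_of_mul_eq_one_right (congrArg Subtype.val (MonoidHom.mem_ker.mp x.2))⟩ : I a))
          fun x y h => Subtype.ext (Subtype.ext (congrArg (fun w : ↥(I a) => (w : G)) h))
      have hrange : Nat.card f.range ≤ Nat.card (C a) := Subgroup.card_le_card_group _
      have hZle : Nat.card Z ≤ Nat.card (C a) * Nat.card (I a) := by
        rw [← f.ker.card_mul_index, Subgroup.index_ker, mul_comm]
        exact Nat.mul_le_mul hrange hker
      -- transport from `a` to its conjugate `r'`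
      obtain ⟨g, hg⟩ : ∃ g : G, g * a * g⁻¹ = r' := by
        obtain ⟨t, ht⟩ := hr
        have hrt : r ^ (t + 1) * r ^ t = 1 := by
          rw [← pow_add, show t + 1 + t = orderOf r by omega, pow_orderOf_eq_one]
        refine ⟨r ^ t, ?_⟩
        rw [hr']
        have h1 : a * r ^ t * a⁻¹ = (r ^ t)⁻¹ := by rw [← conj_pow, har, inv_pow]
        calc r ^ t * a * (r ^ t)⁻¹ = a * (a⁻¹ * r ^ t * a) * (r ^ t)⁻¹ := by group
          _ = a * (r ^ t)⁻¹ * (r ^ t)⁻¹ := by
              rw [show a⁻¹ * r ^ t * a = a * r ^ t * a⁻¹ by rw [hainv], h1]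
          _ = a * r := by
              rw [mul_assoc, ← mul_inv_rev]; congr 1
              rw [inv_eq_iff_mul_eq_one, ← pow_add, ← pow_succ, show t + t + 1 = orderOf r by omega,
                pow_orderOf_eq_one]
      have hCg : Nat.card (C a) ≤ Nat.card (C r') :=
        Nat.card_le_card_of_injective (fun y : C a => (⟨g * y * g⁻¹, Subgroup.mem_inf.mpr
          ⟨hZn.conj_mem y y.2.1 g, Subgroup.mem_centralizer_singleton_iff.mpr (by
            rw [← hg]
            have h := Subgroup.mem_centralizer_singleton_iff.mp y.2.2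
            calc g * (y : G) * g⁻¹ * (g * a * g⁻¹) = g * ((y : G) * a) * g⁻¹ := by group
              _ = g * (a * (y : G)) * g⁻¹ := by rw [h]
              _ = _ := by group)⟩⟩ : C r'))
          fun y z h => Subtype.ext (by simpa using congrArg Subtype.val h)
      have hIg : Nat.card (I a) ≤ Nat.card (I r') :=
        Nat.card_le_card_of_injective (fun y : I a => (⟨g * y * g⁻¹, hZn.conj_mem y y.2.1 g, by
            rw [← hg]
            calc g * a * g⁻¹ * (g * (y : G) * g⁻¹) * (g * a * g⁻¹)⁻¹ = g * (a * y * a⁻¹) * g⁻¹ := by group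
              _ = _ := by rw [y.2.2]; group⟩ : I r'))
          fun y z h => Subtype.ext (by simpa using congrArg Subtype.val h)
      have hC2 : Nat.card (C a) * Nat.card (C a) ≤ Nat.card Z :=
        (Nat.mul_le_mul_left _ hCg).trans (hprod _ _ inf_le_left inf_le_left fun y h1 h2 =>
          hfix y (hZN h1.1) (har'' y
            (mul_inv_eq_iff_eq_mul.mpr (Subgroup.mem_centralizer_singleton_iff.mp h1.2).symm)
            (mul_inv_eq_iff_eq_mul.mpr (Subgroup.mem_centralizer_singleton_iff.mp h2.2).symm)))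
      have hI2 : Nat.card (I a) * Nat.card (I a) ≤ Nat.card Z :=
        (Nat.mul_le_mul_left _ hIg).trans (hprod _ _ (hIle _) (hIle _) fun y h1 h2 =>
          hfix y (hZN h1.1) (har' y h1.2 h2.2))
      have hCI : Nat.card (C a) = Nat.card (I a) := by
        refine le_antisymm ?_ ?_
        · exact Nat.le_of_mul_le_mul_left (hC2.trans hZle) Nat.card_pos
        · exact Nat.le_of_mul_le_mul_right (hI2.trans hZle) Nat.card_pos
      have hsq : Nat.card (C a) ^ 2 = Nat.card Z := by
        rw [pow_two]; exact le_antisymm hC2 (by rw [← hCI] at hZle; exact hZle)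
      refine ⟨hsq, fun x hx hax => ?_⟩
      -- the map `m ↦ a⁻¹ * (m * a * m⁻¹)` has image all of `I a`
      let φ : Z →* ↥(I a) := MonoidHom.mk' (fun m => ⟨a⁻¹ * (m : G) * a * (m : G)⁻¹, by
          rw [hainv]; exact mul_mem (by simpa [hainv] using hcj m m.2) (inv_mem m.2), by
          rw [mul_inv_rev, mul_inv_rev, mul_inv_rev, inv_inv, inv_inv]
          calc a * (a⁻¹ * (m : G) * a * (m : G)⁻¹) * a⁻¹ = (m : G) * (a * (m : G)⁻¹ * a⁻¹) := by group
            _ = _ := by rw [hainv]; group⟩)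
        fun m m' => Subtype.ext (by
          show a⁻¹ * ((m : G) * m') * a * ((m : G) * m')⁻¹ =
            a⁻¹ * m * a * (m : G)⁻¹ * (a⁻¹ * m' * a * (m' : G)⁻¹)
          have h1 : Commute (a⁻¹ * (m' : G) * a * (m' : G)⁻¹) ((m : G)⁻¹) :=
            hcomm _ (mul_mem (by rw [hainv]; simpa [hainv] using hcj m' m'.2) (inv_mem m'.2)) _ (inv_mem m.2)
          calc _ = a⁻¹ * (m : G) * a * ((a⁻¹ * (m' : G) * a * (m' : G)⁻¹) * (m : G)⁻¹) := by group
            _ = _ := by rw [h1.eq]; group)
      have hφ : Function.Surjective φ := by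
        rw [← MonoidHom.range_eq_top]
        refine Subgroup.eq_top_of_le_card _ ?_
        have h1 : Nat.card φ.ker ≤ Nat.card (C a) :=
          Nat.card_le_card_of_injective (fun m : φ.ker => (⟨((m : Z) : G), Subgroup.mem_inf.mpr
              ⟨(m : Z).2, Subgroup.mem_centralizer_singleton_iff.mpr (by
                have h : a⁻¹ * ((m : Z) : G) * a * ((m : Z) : G)⁻¹ = 1 :=
                  congrArg Subtype.val (MonoidHom.mem_ker.mp m.2)
                rw [mul_inv_eq_one, mul_assoc, inv_mul_eq_iff_eq_mul] at h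
                exact h)⟩⟩ : C a)) fun x y h => Subtype.ext (Subtype.ext (congrArg (fun w : ↥(C a) => (w : G)) h))
        have h2 := φ.ker.card_mul_index
        rw [Subgroup.index_ker, ← hsq, pow_two] at h2
        rw [← hCI]
        refine Nat.le_of_mul_le_mul_left (h2.ge.trans (Nat.mul_le_mul_right _ h1)) Nat.card_pos
      obtain ⟨m, hm⟩ := hφ ⟨x, hx, hax⟩
      refine ⟨m, m.2, ?_⟩
      have hm' : a⁻¹ * (m : G) * a * (m : G)⁻¹ = x := congrArg Subtype.val hm
      rw [← hm']; group
    -- the quotient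
    let q := QuotientGroup.mk' Z
    have hq := QuotientGroup.mk'_surjective Z
    haveI hNb : (N.map q).Normal := Subgroup.Normal.map inferInstance q hq
    have hlt : Nat.card (N.map q) < n := by
      have h1 := (q.subgroupMap N).ker.card_mul_index
      rw [Subgroup.index_ker, MonoidHom.range_eq_top.mpr (q.subgroupMap_surjective N), Subgroup.card_top,
        hn] at h1
      have h2 : 1 < Nat.card (q.subgroupMap N).ker := by
        refine lt_of_lt_of_le (Finite.one_lt_card_iff_nontrivial.mpr ((Subgroup.nontrivial_iff_ne_bot Z).mpr hZ1))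
          (Nat.card_le_card_of_injective (fun z : Z => (⟨⟨z, hZN z.2⟩, MonoidHom.mem_ker.mpr (Subtype.ext
            ((QuotientGroup.eq_one_iff _).mpr z.2))⟩ : (q.subgroupMap N).ker)) fun u v h =>
              Subtype.ext (congrArg (fun w : (q.subgroupMap N).ker => ((w : N) : G)) h))
      have h3 : 0 < Nat.card (N.map q) := Nat.card_pos
      nlinarith
    obtain ⟨k, hk⟩ := IsPGroup.iff_card.mp hN
    have hcopr : (Nat.card (Subgroup.zpowers r)).Coprime (Nat.card N) := by
      rw [Nat.card_zpowers, hk]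
      exact Nat.Coprime.pow_right _ (Nat.coprime_two_right.mpr hr)
    have hqfix : ∀ x ∈ N.map q, Commute x (q r) → x = 1 := by
      intro x hx hxr
      have h := Coprime.map_inf_centralizer (A := Subgroup.zpowers r) (K := N) Subgroup.le_normalizer_of_normal
        hcopr (Or.inl inferInstance) q
      have hx' : x ∈ N.map q ⊓ Subgroup.centralizer (((Subgroup.zpowers r).map q : Subgroup _) : Set _) := by
        refine Subgroup.mem_inf.mpr ⟨hx, ?_⟩
        rw [MonoidHom.map_zpowers]
        exact Coprime.mem_centralizer_singleton_zpowers (Subgroup.mem_centralizer_singleton_iff.mpr hxr.eq)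
      rw [← h] at hx'
      obtain ⟨y, hy, rfl⟩ := hx'
      rw [hfix y hy.1 ((hy.2 r (Subgroup.mem_zpowers r)).symm), map_one]
    obtain ⟨hb1, hb2⟩ := ih _ hlt (G ⧸ Z) (N.map q) rfl (hN.map q) (q r) (q a)
      (hr.of_dvd_nat (orderOf_map_dvd q r)) (by rw [← map_mul, ha, map_one])
      (by rw [← map_inv, ← map_inv, ← map_mul, ← map_mul, har]) hqfix
    constructor
    · -- fixed points cover fixed points of the quotient
      set CN := N ⊓ Subgroup.centralizer ({a} : Set G) with hCN
      have himg : CN.map q = N.map q ⊓ Subgroup.centralizer ({q a} : Set (G ⧸ Z)) := by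
        refine le_antisymm ?_ ?_
        · rintro _ ⟨y, hy, rfl⟩
          refine Subgroup.mem_inf.mpr ⟨Subgroup.mem_map_of_mem q hy.1,
            Subgroup.mem_centralizer_singleton_iff.mpr ?_⟩
          rw [← map_mul, ← map_mul, Subgroup.mem_centralizer_singleton_iff.mp hy.2]
        · rintro _ ⟨⟨y, hy, rfl⟩, hc⟩
          have h0 : q y * q a = q a * q y := Subgroup.mem_centralizer_singleton_iff.mp hc
          set z := a⁻¹ * y * a * y⁻¹ with hz
          have hzZ : z ∈ Z := by
            rw [← QuotientGroup.eq_one_iff, ← QuotientGroup.mk'_apply Z]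
            show q z = 1
            rw [hz, map_mul, map_mul, map_mul, map_inv, map_inv, mul_assoc (q a)⁻¹, h0]
            group
          have hzi : a * z * a⁻¹ = z⁻¹ := by
            rw [hz, mul_inv_rev, mul_inv_rev, mul_inv_rev, inv_inv, inv_inv]
            calc a * (a⁻¹ * y * a * y⁻¹) * a⁻¹ = y * (a * y⁻¹ * a⁻¹) := by group
              _ = _ := by rw [hainv]; group
          obtain ⟨m, hm, hma⟩ := hZstat.2 z hzZ hzi
          refine ⟨m⁻¹ * y, Subgroup.mem_inf.mpr ⟨mul_mem (inv_mem (hZN hm)) hy,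
            Subgroup.mem_centralizer_singleton_iff.mpr ?_⟩, ?_⟩
          · have hma' : m * a * m⁻¹ = y * a * y⁻¹ := by rw [hma, hz]; group
            calc m⁻¹ * y * a = m⁻¹ * (y * a * y⁻¹) * y := by group
              _ = m⁻¹ * (m * a * m⁻¹) * y := by rw [hma']
              _ = a * (m⁻¹ * y) := by group
          · rw [map_mul, map_inv, show q m = 1 from (QuotientGroup.eq_one_iff _).mpr hm]
            group
      have hcard : Nat.card CN = Nat.card ↥(Z ⊓ Subgroup.centralizer ({a} : Set G)) * Nat.card (CN.map q) := by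
        have h1 := (q.subgroupMap CN).ker.card_mul_index
        rw [Subgroup.index_ker, MonoidHom.range_eq_top.mpr (q.subgroupMap_surjective CN), Subgroup.card_top] at h1
        rw [← h1]
        congr 1
        refine le_antisymm ?_ ?_
        · exact Nat.card_le_card_of_injective (fun y : (q.subgroupMap CN).ker =>
            (⟨((y : CN) : G), Subgroup.mem_inf.mpr ⟨(QuotientGroup.eq_one_iff _).mp
              (congrArg Subtype.val (MonoidHom.mem_ker.mp y.2)), (y : CN).2.2⟩⟩ :
              ↥(Z ⊓ Subgroup.centralizer ({a} : Set G)))) fun u v h =>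
                Subtype.ext (Subtype.ext (congrArg (fun w : ↥(Z ⊓ Subgroup.centralizer ({a} : Set G)) => (w : G)) h))
        · exact Nat.card_le_card_of_injective (fun y : ↥(Z ⊓ Subgroup.centralizer ({a} : Set G)) =>
            (⟨⟨(y : G), hZN y.2.1, y.2.2⟩, MonoidHom.mem_ker.mpr (Subtype.ext
              ((QuotientGroup.eq_one_iff _).mpr y.2.1))⟩ : (q.subgroupMap CN).ker)) fun u v h =>
                Subtype.ext (congrArg (fun w : (q.subgroupMap CN).ker => ((w : CN) : G)) h)
      have hNcard : Nat.card N = Nat.card Z * Nat.card (N.map q) := by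
        have h1 := (q.subgroupMap N).ker.card_mul_index
        rw [Subgroup.index_ker, MonoidHom.range_eq_top.mpr (q.subgroupMap_surjective N), Subgroup.card_top] at h1
        rw [← h1]
        congr 1
        refine Nat.card_congr ⟨fun y => ⟨((y : N) : G), (QuotientGroup.eq_one_iff _).mp
              (congrArg Subtype.val (MonoidHom.mem_ker.mp y.2))⟩,
          fun z => ⟨⟨z, hZN z.2⟩, MonoidHom.mem_ker.mpr (Subtype.ext
              ((QuotientGroup.eq_one_iff _).mpr z.2))⟩, fun _ => rfl, fun _ => rfl⟩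
      rw [hcard, hNcard, mul_pow, hZstat.1, himg, hb1]
    · intro x hx hax
      obtain ⟨_, ⟨m, hm, rfl⟩, hma⟩ := hb2 (q x) (Subgroup.mem_map_of_mem q hx)
        (by rw [← map_inv, ← map_inv, ← map_mul, ← map_mul, hax])
      -- `a * x` is conjugate to `a * z` with `z` central
      set z := a⁻¹ * (m⁻¹ * (a * x) * m) with hz
      have hzZ : z ∈ Z := by
        rw [← QuotientGroup.eq_one_iff, ← QuotientGroup.mk'_apply Z]
        show q z = 1
        have e : q (a * x) = q m * q a * (q m)⁻¹ := by rw [map_mul]; exact hma.symm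
        rw [hz, map_mul, map_mul, map_mul, map_inv, map_inv, e]
        group
      have hax2 : (a * x) * (a * x) = 1 := by
        calc a * x * (a * x) = (a * x * a⁻¹) * (a * a) * x := by group
          _ = 1 := by rw [hax, ha]; group
      have haz : a * z = m⁻¹ * (a * x) * m := by rw [hz, mul_inv_cancel_left]
      have hzi : a * z * a⁻¹ = z⁻¹ := by
        rw [hainv]
        refine eq_inv_of_mul_eq_one_left ?_
        rw [mul_assoc (a * z)]
        rw [haz]
        calc m⁻¹ * (a * x) * m * (m⁻¹ * (a * x) * m) = m⁻¹ * ((a * x) * (a * x)) * m := by group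
          _ = 1 := by rw [hax2]; group
      obtain ⟨m₂, hm₂, hma₂⟩ := hZstat.2 z hzZ hzi
      refine ⟨m * m₂, mul_mem hm (hZN hm₂), ?_⟩
      calc m * m₂ * a * (m * m₂)⁻¹ = m * (m₂ * a * m₂⁻¹) * m⁻¹ := by group
        _ = a * x := by rw [hma₂, haz]; group

theorem dihedral_involutions {G : Type u} [Group G] [Finite G] {r : ℕ} [hr0 : Fact r.Prime]
    (hr : r ≠ 2) [(Cfsg.pCore 2 G).Normal] (e : G ⧸ Cfsg.pCore 2 G ≃* DihedralGroup r) (R : Sylow r G)
    (hC : Cfsg.pCore 2 G ⊓ Subgroup.centralizer ((R : Subgroup G) : Set G) = ⊥) :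
    Nonempty (↥(Subgroup.normalizer ((R : Subgroup G) : Set G)) ≃* DihedralGroup r) ∧
      ∀ a : G, a ∈ Subgroup.normalizer ((R : Subgroup G) : Set G) → orderOf a = 2 →
        (∀ b : G, orderOf b = 2 → b ∉ Cfsg.pCore 2 G → ∃ g : G, g * a * g⁻¹ = b) ∧
        Nat.card ↥(Cfsg.pCore 2 G ⊓ Subgroup.centralizer ({a} : Set G)) ^ 2 =
          Nat.card ↥(Cfsg.pCore 2 G) := by
  haveI : NeZero r := ⟨hr0.out.ne_zero⟩
  haveI : Fact (Nat.Prime 2) := ⟨Nat.prime_two⟩
  set N := Cfsg.pCore 2 G with hN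
  have hNp : IsPGroup 2 N := CfsgLib.Fitting.pCore_isPGroup 2
  obtain ⟨k, hk⟩ := IsPGroup.iff_card.mp hNp
  let q := QuotientGroup.mk' N
  have hq := QuotientGroup.mk'_surjective N
  have hGcard : Nat.card G = 2 * r * Nat.card N := by
    rw [Subgroup.card_eq_card_quotient_mul_card_subgroup N, Nat.card_congr e.toEquiv,
      DihedralGroup.nat_card]
  have hRcard : Nat.card R = r := by
    rw [Sylow.card_eq_multiplicity, hGcard, hk, Nat.factorization_mul (by
      have := hr0.out.ne_zero; positivity) (by positivity), Nat.factorization_mul (by norm_num)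
      hr0.out.ne_zero, Nat.factorization_pow]
    simp [Nat.Prime.factorization Nat.prime_two, hr0.out.factorization, hr, hr.symm]
  obtain ⟨ρ, hρ⟩ := (isCyclic_of_prime_card hRcard).exists_ofOrder_eq_natCard
  rw [hRcard, ← Subgroup.orderOf_coe] at hρ
  have hρR : (R : Subgroup G) = Subgroup.zpowers (ρ : G) :=
    (Subgroup.eq_of_le_of_card_ge (Subgroup.zpowers_le.mpr ρ.2) (by rw [Nat.card_zpowers, hρ, hRcard])).symm
  set NR := Subgroup.normalizer ((R : Subgroup G) : Set G) with hNR
  have hfix : ∀ x ∈ N, Commute x (ρ : G) → x = 1 := by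
    intro x hx hxr
    have : x ∈ N ⊓ Subgroup.centralizer ((R : Subgroup G) : Set G) := by
      refine Subgroup.mem_inf.mpr ⟨hx, ?_⟩
      rw [hρR]
      exact Coprime.mem_centralizer_singleton_zpowers (Subgroup.mem_centralizer_singleton_iff.mpr hxr.eq)
    exact Subgroup.mem_bot.mp (hC ▸ this)
  have hNNR : ∀ x ∈ N, x ∈ NR → x = 1 := by
    intro x hx hxR
    refine hfix x hx ?_
    refine commutatorElement_eq_one_iff_commute.mp ?_
    have h1 : ⁅x, (ρ : G)⁆ ∈ N := by
      rw [commutatorElement_def, show x * (ρ : G) * x⁻¹ * (ρ : G)⁻¹ = x * ((ρ : G) * x⁻¹ * (ρ : G)⁻¹) by group]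
      exact mul_mem hx ((inferInstance : N.Normal).conj_mem _ (inv_mem hx) _)
    have h2 : ⁅x, (ρ : G)⁆ ∈ (R : Subgroup G) := by
      rw [commutatorElement_def]
      exact mul_mem ((Subgroup.mem_normalizer_iff.mp hxR _).mp ρ.2) (inv_mem ρ.2)
    have h3 : N ⊓ (R : Subgroup G) = ⊥ := Coprime.inf_eq_bot_of_coprime_card (by
      rw [hRcard, hk]
      exact Nat.Coprime.pow_left _ ((Nat.coprime_primes Nat.prime_two hr0.out).mpr hr.symm))
    exact Subgroup.mem_bot.mp (h3 ▸ Subgroup.mem_inf.mpr ⟨h1, h2⟩)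
  -- the image of `R`
  have hsurj : Function.Surjective (q.comp NR.subtype) := by
    intro y
    haveI : ((R : Subgroup G).map q).Normal := by
      set P := (R : Subgroup G).map q
      have hPc : Nat.card P = r := by
        have h1 : Nat.card P ∣ r := hRcard ▸ (Subgroup.card_map_dvd _ q)
        rcases (Nat.dvd_prime hr0.out).mp h1 with h | h
        · exfalso
          have hρN : (ρ : G) ∈ N := by
            rw [← QuotientGroup.eq_one_iff]
            exact Subgroup.mem_bot.mp ((Subgroup.card_eq_one.mp h) ▸ Subgroup.mem_map_of_mem q ρ.2)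
          have h2 : orderOf (ρ : G) ∣ Nat.card N := Subgroup.orderOf_dvd_natCard N hρN
          rw [hρ, hk] at h2
          exact hr ((Nat.prime_dvd_prime_iff_eq hr0.out Nat.prime_two).mp (hr0.out.dvd_of_dvd_pow h2))
        · exact h
      refine Subgroup.normal_of_index_eq_two ?_
      have h2 := P.card_mul_index
      rw [hPc, Nat.card_congr e.toEquiv, DihedralGroup.nat_card, mul_comm 2] at h2
      exact Nat.eq_of_mul_eq_mul_left hr0.out.pos h2
    haveI : ((R : Subgroup G) ⊔ N).Normal := by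
      have := (inferInstance : ((R : Subgroup G).map q).Normal).comap q
      rwa [Subgroup.comap_map_eq, QuotientGroup.ker_mk'] at this
    have hF := Sylow.normalizer_sup_eq_top' (N := (R : Subgroup G) ⊔ N) R le_sup_left
    obtain ⟨g, rfl⟩ := hq y
    have hg : g ∈ NR ⊔ N := by
      have h : g ∈ NR ⊔ ((R : Subgroup G) ⊔ N) := hF ▸ Subgroup.mem_top g
      rwa [← sup_assoc, sup_of_le_left Subgroup.le_normalizer] at h
    obtain ⟨u, hu, v, hv, rfl⟩ := Subgroup.mem_sup_of_normal_right.mp hg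
    refine ⟨⟨u, hu⟩, ?_⟩
    show q u = q (u * v)
    rw [map_mul, show q v = 1 from (QuotientGroup.eq_one_iff _).mpr hv, mul_one]
  have hinj : Function.Injective (q.comp NR.subtype) :=
    (injective_iff_map_eq_one _).mpr fun u hu => Subtype.ext (hNNR u ((QuotientGroup.eq_one_iff _).mp hu) u.2)
  let ψ : NR ≃* DihedralGroup r := (MulEquiv.ofBijective _ ⟨hinj, hsurj⟩).trans e
  refine ⟨⟨ψ⟩, fun a ha ha2 => ?_⟩
  have haa : a * a = 1 := by rw [← pow_two, ← ha2, pow_orderOf_eq_one]
  have hρN : (ρ : G) ∈ NR := Subgroup.le_normalizer ρ.2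
  -- the classes in the dihedral quotient
  have hψa : ∃ i, ψ ⟨a, ha⟩ = DihedralGroup.sr i := by
    rcases h : ψ ⟨a, ha⟩ with i | i
    · exfalso
      have h2 : orderOf (ψ ⟨a, ha⟩) = 2 := by rw [ψ.orderOf_eq, ← Subgroup.orderOf_coe]; exact ha2
      rw [h, DihedralGroup.orderOf_r] at h2
      have h3 : r / Nat.gcd r i.val ∣ r := Nat.div_dvd_of_dvd (Nat.gcd_dvd_left _ _)
      rw [h2] at h3
      exact hr ((Nat.prime_dvd_prime_iff_eq Nat.prime_two hr0.out).mp h3).symm
    · exact ⟨i, rfl⟩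
  obtain ⟨i, hi⟩ := hψa
  have hψρ : ∃ j, ψ ⟨(ρ : G), hρN⟩ = DihedralGroup.r j := by
    rcases h : ψ ⟨(ρ : G), hρN⟩ with j | j
    · exact ⟨j, rfl⟩
    · exfalso
      have h2 : orderOf (ψ ⟨(ρ : G), hρN⟩) = r := by rw [ψ.orderOf_eq, ← Subgroup.orderOf_coe]; exact hρ
      rw [h, DihedralGroup.orderOf_sr] at h2
      exact hr h2.symm
  obtain ⟨j, hj⟩ := hψρ
  have hinvert : a * (ρ : G) * a⁻¹ = (ρ : G)⁻¹ := by
    have h : (⟨a, ha⟩ : NR) * ⟨(ρ : G), hρN⟩ * (⟨a, ha⟩ : NR)⁻¹ = (⟨(ρ : G), hρN⟩ : NR)⁻¹ := by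
      apply ψ.injective
      rw [map_mul, map_mul, map_inv, map_inv, hi, hj]
      simp
    exact congrArg Subtype.val h
  obtain ⟨hcardC, hconj⟩ := aux _ G N rfl hNp (ρ : G) a
    (by rw [hρ]; exact hr0.out.odd_of_ne_two hr) haa hinvert hfix
  refine ⟨fun b hb hbN => ?_, hcardC⟩
  -- move `b` into the coset of `a`
  obtain ⟨u, hu⟩ : ∃ u : NR, q b = q u := by
    obtain ⟨u, hu⟩ := hsurj (q b)
    exact ⟨u, hu.symm⟩
  have hu2 : orderOf u = 2 := by
    refine orderOf_eq_prime (hinj ?_) fun h => hbN ?_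
    · show q ((u ^ 2 : NR) : G) = q ((1 : NR) : G)
      rw [SubmonoidClass.coe_pow, map_pow, ← hu, ← map_pow, ← hb, pow_orderOf_eq_one, Subgroup.coe_one]
    · rw [← QuotientGroup.eq_one_iff]
      show q b = 1
      rw [hu, h, Subgroup.coe_one, map_one]
  obtain ⟨l, hl⟩ : ∃ l, ψ u = DihedralGroup.sr l := by
    rcases h : ψ u with l | l
    · exfalso
      have h2 : orderOf (ψ u) = 2 := by rw [ψ.orderOf_eq]; exact hu2
      rw [h, DihedralGroup.orderOf_r] at h2
      have h3 : r / Nat.gcd r l.val ∣ r := Nat.div_dvd_of_dvd (Nat.gcd_dvd_left _ _)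
      rw [h2] at h3
      exact hr ((Nat.prime_dvd_prime_iff_eq Nat.prime_two hr0.out).mp h3).symm
    · exact ⟨l, rfl⟩
  have h2 : ((2 : ℕ) : ZMod r) ≠ 0 := fun h => hr
    ((Nat.prime_dvd_prime_iff_eq hr0.out Nat.prime_two).mp ((ZMod.natCast_eq_zero_iff _ _).mp h))
  set w : NR := ψ.symm (DihedralGroup.r ((i - l) / ((2 : ℕ) : ZMod r))) with hw
  have hwu : w * ⟨a, ha⟩ * w⁻¹ = u := by
    apply ψ.injective
    rw [map_mul, map_mul, map_inv, hw, MulEquiv.apply_symm_apply, hi, hl]
    simp only [DihedralGroup.inv_r, DihedralGroup.r_mul_sr, DihedralGroup.sr_mul_r]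
    congr 1
    have e2 : ((i - l) / ((2 : ℕ) : ZMod r)) + ((i - l) / ((2 : ℕ) : ZMod r)) = i - l := by
      rw [← two_mul, show (2 : ZMod r) = ((2 : ℕ) : ZMod r) by push_cast; ring, mul_div_cancel₀ _ h2]
    linear_combination -e2
  -- `w⁻¹ * b * w` lies in `a * N`
  set x := a⁻¹ * ((w : G)⁻¹ * b * (w : G)) with hx
  have hxN : x ∈ N := by
    rw [← QuotientGroup.eq_one_iff]
    show q x = 1
    rw [hx, map_mul, map_mul, map_mul, map_inv, map_inv, hu, ← hwu]
    simp only [Subgroup.coe_mul, Subgroup.coe_inv, map_mul, map_inv]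
    group
  have hbb : b * b = 1 := by rw [← pow_two, ← hb, pow_orderOf_eq_one]
  have hax : a * x * a⁻¹ = x⁻¹ := by
    rw [inv_eq_of_mul_eq_one_right haa]
    refine eq_inv_of_mul_eq_one_left ?_
    rw [hx, inv_eq_of_mul_eq_one_right haa]
    calc a * (a * ((w : G)⁻¹ * b * w)) * a * (a * ((w : G)⁻¹ * b * w))
        = (a * a) * ((w : G)⁻¹ * b * w) * (a * a) * ((w : G)⁻¹ * b * w) := by group
      _ = (w : G)⁻¹ * (b * b) * w := by rw [haa]; group
      _ = 1 := by rw [hbb]; group
  obtain ⟨m, hm, hma⟩ := hconj x hxN hax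
  refine ⟨(w : G) * m, ?_⟩
  calc (w : G) * m * a * ((w : G) * m)⁻¹ = (w : G) * (m * a * m⁻¹) * (w : G)⁻¹ := by group
    _ = b := by rw [hma, hx]; group

end CfsgLib.DihedralModCore
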