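import Cfsg.Agent.Lib.LocalEven.FrakLProduct
import Cfsg.Agent.S2861
import Cfsg.Agent.Lib.Suzuki.TorClasses

/-!
# Products of two conjugates of a Sylow subgroup in `SL₂(q)`, `Sz(q)` and `D_{2r}`
-/

set_option autoImplicit false
set_option linter.style.haveILetI false

namespace CfsgLib.FrakLProd

open scoped Pointwise MatrixGroups

section Two

variable {K : Type*} [Group K]

theorem good_two [Finite K] (Y : Subgroup K) (hcard : Nat.card Y = 2)
    (hcl : Subgroup.normalClosure (Y : Set K) = ⊤)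
    (hmax : ∀ X : Subgroup K, Y ≤ X → X ≠ ⊤ → X ≤ Subgroup.normalizer (Y : Set K))
    (hne : Subgroup.normalizer (Y : Set K) ≠ ⊤) : Good 2 K Y := by
  obtain ⟨y0, hy01, hy0u⟩ := (Nat.card_eq_two_iff' (1 : Y)).mp hcard
  set y : K := (y0 : K)
  have hy1 : y ≠ 1 := fun e => hy01 (Subtype.ext e)
  have hmem : ∀ z ∈ Y, z = 1 ∨ z = y := by
    intro z hz
    by_cases h : (⟨z, hz⟩ : Y) = 1
    · exact Or.inl (congrArg Subtype.val h)
    · exact Or.inr (congrArg Subtype.val (hy0u _ h))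
  have hyy : y * y = 1 := by
    rcases hmem _ (Y.mul_mem y0.2 y0.2) with h | h
    · exact h
    · exact absurd (mul_eq_left.mp h) hy1
  obtain ⟨k, hk⟩ : ∃ k : K, k * y * k⁻¹ ∉ Subgroup.normalizer (Y : Set K) := by
    by_contra! hall
    refine hne (top_le_iff.mp (hcl.ge.trans ((Subgroup.closure_le _).mpr fun z hz => ?_)))
    obtain ⟨a, ha, hconj⟩ := Group.mem_conjugatesOfSet_iff.mp hz
    obtain ⟨c, rfl⟩ := isConj_iff.mp hconj
    rcases hmem a ha with rfl | rfl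
    · simp
    · exact hall c
  set y' : K := k * y * k⁻¹ with hy'
  have hyy' : y' * y' = 1 := by
    rw [hy', show k * y * k⁻¹ * (k * y * k⁻¹) = k * (y * y) * k⁻¹ by group, hyy]; group
  set t : K := y * y' with ht
  have hyi : y⁻¹ = y := inv_eq_of_mul_eq_one_right hyy
  have hyi' : y'⁻¹ = y' := inv_eq_of_mul_eq_one_right hyy'
  have hinv : ∀ i : ℤ, y * t ^ i * y⁻¹ = t ^ (-i) := by
    intro i
    rw [← conj_zpow, zpow_neg, ← inv_zpow]
    congr 1
    rw [ht, mul_inv_rev, hyi', hyi, ← mul_assoc y y y', hyy, one_mul]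
  let D : Subgroup K :=
    { carrier := {g | ∃ i : ℤ, g = t ^ i ∨ g = t ^ i * y}
      one_mem' := ⟨0, Or.inl (zpow_zero t).symm⟩
      mul_mem' := by
        rintro a b ⟨i, hi⟩ ⟨j, hj⟩
        have hji : y * t ^ j = t ^ (-j) * y := mul_inv_eq_iff_eq_mul.mp (hinv j)
        rcases hi with rfl | rfl <;> rcases hj with rfl | rfl
        · exact ⟨i + j, Or.inl (zpow_add t i j).symm⟩
        · exact ⟨i + j, Or.inr (by rw [zpow_add, mul_assoc])⟩
        · exact ⟨i + -j, Or.inr (by rw [mul_assoc, hji, zpow_add, mul_assoc])⟩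
        · exact ⟨i + -j, Or.inl (by
            rw [mul_assoc, ← mul_assoc y, hji, mul_assoc _ y y, hyy, mul_one, zpow_add])⟩
      inv_mem' := by
        rintro a ⟨i, rfl | rfl⟩
        · exact ⟨-i, Or.inl (zpow_neg t i).symm⟩
        · exact ⟨i, Or.inr (by
            rw [mul_inv_rev, hyi, ← zpow_neg, mul_inv_eq_iff_eq_mul.mp (hinv (-i)), neg_neg])⟩ }
  have hD : D = ⊤ := by
    by_contra hne'
    refine hk (hmax D (fun z hz => ?_) hne' ⟨-1, Or.inr ?_⟩)
    · rcases hmem z hz with rfl | rfl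
      · exact ⟨0, Or.inl (zpow_zero t).symm⟩
      · exact ⟨0, Or.inr (by rw [zpow_zero, one_mul])⟩
    · rw [zpow_neg_one, ht, mul_inv_rev, inv_mul_cancel_right, hyi']
  -- `t` has odd order
  obtain ⟨j, hj⟩ : ∃ j : ℤ, t ^ (2 * j + 1) = 1 := by
    have hy't : y' = t ^ (-1 : ℤ) * y := by
      rw [zpow_neg_one, ht, mul_inv_rev, inv_mul_cancel_right, hyi']
    obtain ⟨i, hi⟩ : k ∈ D := hD ▸ Subgroup.mem_top k
    refine ⟨i, ?_⟩
    have e : k * y * k⁻¹ = t ^ (2 * i) * y := by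
      have h1 : y * (t ^ i)⁻¹ = t ^ i * y := by
        rw [← zpow_neg, mul_inv_eq_iff_eq_mul.mp (hinv (-i)), neg_neg]
      have h2 : t ^ i * y * (t ^ i)⁻¹ = t ^ (2 * i) * y := by
        rw [mul_assoc, h1, ← mul_assoc, ← zpow_add, ← two_mul]
      rcases hi with hi | hi
      · rw [hi, h2]
      · rw [hi, show t ^ i * y * y * (t ^ i * y)⁻¹ = t ^ i * y * (t ^ i)⁻¹ by group, h2]
    rw [← hy', hy't] at e
    rw [zpow_add, ← mul_right_cancel e, ← zpow_add]
    norm_num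
  intro x r hr hr2 hx
  obtain ⟨i, hi⟩ : x ∈ D := hD ▸ Subgroup.mem_top x
  rcases hi with rfl | rfl
  · refine Or.inl ⟨t ^ (i * (j + 1)), 1, y, y0.2, y, y0.2, ?_⟩
    have h1 : y * (t ^ (i * (j + 1)))⁻¹ = t ^ (i * (j + 1)) * y := by
      rw [← zpow_neg, mul_inv_eq_iff_eq_mul.mp (hinv (-(i * (j + 1)))), neg_neg]
    rw [one_mul, inv_one, mul_one, mul_assoc (t ^ (i * (j + 1))) y, h1, ← mul_assoc, mul_assoc _ y y,
      hyy, mul_one, ← zpow_add, show i * (j + 1) + i * (j + 1) = i + (2 * j + 1) * i by ring,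
      zpow_add, zpow_mul, hj, one_zpow, mul_one]
  · exfalso
    have h2 : (t ^ i * y) ^ 2 = 1 := by
      rw [pow_two, mul_assoc, ← mul_assoc y, mul_inv_eq_iff_eq_mul.mp (hinv i), mul_assoc, hyy,
        mul_one, ← zpow_add, add_neg_cancel, zpow_zero]
    have h3 := orderOf_dvd_of_pow_eq_one h2
    rw [hx] at h3
    exact hr2 ((Nat.prime_dvd_prime_iff_eq hr Nat.prime_two).mp h3)

end Two

section SLTwo

open CfsgLib.SL2

variable {F : Type*} [Field F]

theorem pow_p_of_trace {p : ℕ} [Fact p.Prime] [CharP F p] {g : SL(2, F)}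
    (h : (g : Matrix (Fin 2) (Fin 2) F) 0 0 + (g : Matrix (Fin 2) (Fin 2) F) 1 1 = 2) :
    g ^ p = 1 := by
  have hdet : (g : Matrix (Fin 2) (Fin 2) F) 0 0 * (g : Matrix (Fin 2) (Fin 2) F) 1 1 -
      (g : Matrix (Fin 2) (Fin 2) F) 0 1 * (g : Matrix (Fin 2) (Fin 2) F) 1 0 = 1 := by
    rw [← Matrix.det_fin_two]; exact g.2
  have hsq : ((g : Matrix (Fin 2) (Fin 2) F) - 1) ^ 2 = 0 := by
    rw [pow_two]
    ext i j
    fin_cases i <;> fin_cases j <;> simp [Matrix.mul_apply, Fin.sum_univ_two]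
    · linear_combination (g : Matrix (Fin 2) (Fin 2) F) 0 0 * h - hdet
    · linear_combination (g : Matrix (Fin 2) (Fin 2) F) 0 1 * h
    · linear_combination (g : Matrix (Fin 2) (Fin 2) F) 1 0 * h
    · linear_combination (g : Matrix (Fin 2) (Fin 2) F) 1 1 * h - hdet
  have h0 : ((g : Matrix (Fin 2) (Fin 2) F) - 1) ^ p = 0 :=
    pow_eq_zero_of_le (Fact.out : p.Prime).two_le hsq
  rw [sub_pow_char_of_commute p (Commute.one_right _), one_pow, sub_eq_zero] at h0
  apply Subtype.ext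
  rw [Matrix.SpecialLinearGroup.coe_pow, h0, Matrix.SpecialLinearGroup.coe_one]

theorem good_sl2 [Fintype F] {p : ℕ} [hp : Fact p.Prime] (Y : Subgroup SL(2, F)) (hY : IsPGroup p Y)
    (hcard : Nat.card Y = Fintype.card F) : Good p SL(2, F) Y := by
  obtain ⟨k, hk⟩ := hY.exists_card_eq
  haveI hchar : CharP F p := by
    obtain ⟨c, hc⟩ := CharP.exists F
    obtain ⟨n, hcp, hn⟩ := FiniteField.card F c
    have hdvd : c ∣ p ^ k := by rw [← hk, hcard, hn]; exact dvd_pow_self c n.pos.ne'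
    rwa [← (Nat.prime_dvd_prime_iff_eq hcp hp.out).mp (hcp.dvd_of_dvd_pow hdvd)]
  obtain ⟨P, hYP⟩ := hY.exists_le_sylow
  obtain ⟨g, hg⟩ := exists_conj_upperSL p P
  have hcU : Nat.card (upperHom (F := F)).range = Fintype.card F := by
    rw [← Nat.card_congr (MonoidHom.ofInjective upperHom_injective).toEquiv,
      Nat.card_congr Multiplicative.toAdd, Nat.card_eq_fintype_card]
  have hYP' : Y = (P : Subgroup SL(2, F)) := Subgroup.eq_of_le_of_card_ge hYP (by
    rw [hcard, hg, Subgroup.card_map_of_injective (MulAut.conj g).injective, hcU])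
  have hmem : ∀ w : SL(2, F), w ^ p = 1 → ∃ a, ∃ s ∈ Y, w = a * s * a⁻¹ := by
    intro w hw
    have hW : IsPGroup p (Subgroup.zpowers w) := by
      rintro ⟨_, i, rfl⟩
      exact ⟨1, Subtype.ext (by
        show (w ^ i) ^ p ^ 1 = 1
        rw [pow_one, ← zpow_natCast, ← zpow_mul, mul_comm, zpow_mul, zpow_natCast, hw, one_zpow])⟩
    obtain ⟨P', hP'⟩ := hW.exists_le_sylow
    obtain ⟨a, ha⟩ := MulAction.exists_smul_eq SL(2, F) P P'
    have h1 : w ∈ ((a • P : Sylow p SL(2, F)) : Subgroup SL(2, F)) := ha ▸ hP' (Subgroup.mem_zpowers w)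
    rw [Sylow.coe_subgroup_smul, Subgroup.mem_pointwise_smul_iff_inv_smul_mem] at h1
    refine ⟨a, a⁻¹ * w * a, hYP' ▸ ?_, by group⟩
    simpa [MulAut.smul_def, MulAut.inv_def] using h1
  have hprod : ∀ x : SL(2, F), ((x : Matrix (Fin 2) (Fin 2) F) 1 0 ≠ 0 ∨
      (x : Matrix (Fin 2) (Fin 2) F) 0 1 ≠ 0 ∨
      (x : Matrix (Fin 2) (Fin 2) F) 0 0 ≠ (x : Matrix (Fin 2) (Fin 2) F) 1 1) → Prod2 Y x := by
    intro x hx
    obtain ⟨a, b, c, d, hM⟩ : ∃ a b c d, (x : Matrix (Fin 2) (Fin 2) F) = !![a, b; c, d] :=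
      ⟨_, _, _, _, Matrix.eta_fin_two _⟩
    simp only [hM, Matrix.of_apply, Matrix.cons_val', Matrix.cons_val_zero, Matrix.cons_val_one,
      Matrix.empty_val', Matrix.cons_val_fin_one] at hx
    obtain ⟨s, t, hst⟩ : ∃ s t : F, b * t ^ 2 + (a - d) * s * t - c * s ^ 2 ≠ 0 := by
      by_contra! hall
      have h1 := hall 1 0
      have h2 := hall 0 1
      have h3 := hall 1 1
      rcases hx with h | h | h
      · exact h (by linear_combination -h1)
      · exact h (by linear_combination h2)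
      · exact h (by linear_combination h3 - h1 - h2)
    set κ := (a + d - 2) / (b * t ^ 2 + (a - d) * s * t - c * s ^ 2) with hκ
    have hκ' : κ * (b * t ^ 2 + (a - d) * s * t - c * s ^ 2) = a + d - 2 := div_mul_cancel₀ _ hst
    let w : SL(2, F) := ⟨!![1 + κ * (s * t), -(κ * s ^ 2); κ * t ^ 2, 1 - κ * (s * t)], by
      rw [Matrix.det_fin_two_of]; ring⟩
    have hw : w ^ p = 1 := pow_p_of_trace (by simp [w]; ring)
    have hw' : (w⁻¹ * x) ^ p = 1 := by
      refine pow_p_of_trace ?_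
      rw [Matrix.SpecialLinearGroup.coe_mul, Matrix.SpecialLinearGroup.coe_inv, hM]
      simp [w, Matrix.adjugate_fin_two, Matrix.mul_apply, Fin.sum_univ_two]
      linear_combination -hκ'
    obtain ⟨u, su, hsu, heu⟩ := hmem _ hw
    obtain ⟨v, sv, hsv, hev⟩ := hmem _ hw'
    exact ⟨u, v, su, hsu, sv, hsv, by rw [← heu, ← hev, mul_inv_cancel_left]⟩
  intro x r hr hrp hx
  by_cases hsc : (x : Matrix (Fin 2) (Fin 2) F) 1 0 ≠ 0 ∨
      (x : Matrix (Fin 2) (Fin 2) F) 0 1 ≠ 0 ∨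
      (x : Matrix (Fin 2) (Fin 2) F) 0 0 ≠ (x : Matrix (Fin 2) (Fin 2) F) 1 1
  · exact Or.inl (hprod x hsc)
  push Not at hsc
  obtain ⟨h10, h01, h00⟩ := hsc
  have hdet := x.2
  rw [Matrix.det_fin_two, h10, h01, ← h00, mul_zero, sub_zero, mul_self_eq_one_iff] at hdet
  have hx1 : x ≠ 1 := fun e => by rw [e, orderOf_one] at hx; exact hr.ne_one hx.symm
  have hm1 : (x : Matrix (Fin 2) (Fin 2) F) = !![-1, 0; 0, -1] := by
    rcases hdet with h | h
    · refine absurd (Subtype.ext ?_) hx1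
      ext i j
      fin_cases i <;> fin_cases j <;> simp [h10, h01, ← h00, h]
    · ext i j
      fin_cases i <;> fin_cases j <;> simp [h10, h01, ← h00, h]
  have hp2 : p ≠ 2 := by
    rintro rfl
    refine hx1 (Subtype.ext ?_)
    rw [hm1, Matrix.SpecialLinearGroup.coe_one, CharTwo.neg_eq, Matrix.one_fin_two]
  refine Or.inr ⟨hp2, Subgroup.mem_center_iff.mpr fun z => Subtype.ext ?_,
    ⟨!![0, -1; 1, 0], by simp [Matrix.det_fin_two_of]⟩, hprod _ (Or.inl (by simp)), Subtype.ext ?_⟩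
  · rw [Matrix.SpecialLinearGroup.coe_mul, Matrix.SpecialLinearGroup.coe_mul, hm1]
    ext i j
    fin_cases i <;> fin_cases j <;> simp [Matrix.mul_apply, Fin.sum_univ_two]
  · refine (Matrix.SpecialLinearGroup.coe_mul _ _).trans ?_
    rw [hm1]
    simp

end SLTwo

section Suzuki

open CfsgLib.Suzuki Cfsg.Agent.S2861

variable {F : Type*} [Field F] [Fintype F] [CharP F 2] {m : ℕ} [hP : Param F m]

theorem good_sz (Y : Subgroup (Gp F m)) (hY : Cfsg.IsElementaryAbelian 2 Y)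
    (hcard : Nat.card Y = Fintype.card F) : Good 2 (Gp F m) Y := by
  haveI : Fact (Nat.Prime 2) := ⟨Nat.prime_two⟩
  obtain ⟨P, hYP⟩ := (CfsgLib.PReduced.isPGroup_of_elementary hY).exists_le_sylow
  obtain ⟨g, hg⟩ := MulAction.exists_smul_eq (Gp F m) P (sylowU F m)
  set f : Gp F m ≃* Gp F m := MulAut.conj g with hf
  have hY' : Y.map f.toMonoidHom = grpZ F m := by
    refine Subgroup.eq_of_le_of_card_ge ?_ (by
      rw [natCard_grpZ, Subgroup.card_map_of_injective f.injective, hcard])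
    rintro _ ⟨z, hz, rfl⟩
    refine mem_grpZ_of_sq ?_ (by rw [← map_pow, hY.2 z hz, map_one])
    rw [← coe_sylowU, ← hg]
    exact Subgroup.smul_mem_pointwise_smul z (MulAut.conj g) _ (hYP hz)
  have hinvol : ∀ w : Gp F m, w ^ 2 = 1 → ∃ a, ∃ s ∈ Y, w = a * s * a⁻¹ := by
    intro w hw
    obtain ⟨k, -, hk⟩ := (Nat.dvd_prime_pow Nat.prime_two).mp
      (show orderOf w ∣ 2 ^ 1 by rw [pow_one]; exact orderOf_dvd_of_pow_eq_one hw)
    obtain ⟨a, ha⟩ := exists_conj_mem_grpU hk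
    have h1 : a * w * a⁻¹ ∈ Y.map f.toMonoidHom := by
      rw [hY']; exact mem_grpZ_of_sq ha (by rw [conj_pow, hw, mul_one, mul_inv_cancel])
    obtain ⟨s, hs, he⟩ := h1
    refine ⟨a⁻¹ * g, s, hs, ?_⟩
    have he' : g * s * g⁻¹ = a * w * a⁻¹ := he
    calc w = a⁻¹ * (a * w * a⁻¹) * a := by group
      _ = a⁻¹ * g * s * (a⁻¹ * g)⁻¹ := by rw [← he']; group
  intro x r hr hr2 hx
  have hx1 : x ≠ 1 := ne_one_of_prime hr hx
  obtain ⟨X, n, hX, hxX⟩ : ∃ (X : Subgroup (Gp F m)) (n : ℕ), Tor X n ∧ x ∈ X := by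
    obtain ⟨A, B, hA, hB, -, -, -, -, -, hcover, -⟩ := exists_tor_reps F m
    rcases prime_dvd_card hr (hx ▸ orderOf_dvd_natCard x) with h | h | h
    · exact absurd h hr2
    · obtain ⟨a, ha⟩ := exists_conj_grpH hr h hx
      exact ⟨_, 2, tor_grpH.map_conj a⁻¹, a * x * a⁻¹, ha, by simp [mul_assoc]⟩
    · rcases hcover x ⟨r, hr, h, hx⟩ with ⟨a, e⟩ | ⟨a, e⟩
      · exact ⟨_, 4, hA.map_conj a, e ▸ self_mem_cent x⟩
      · exact ⟨_, 4, hB.map_conj a, e ▸ self_mem_cent x⟩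
  set N := Subgroup.normalizer (X : Set (Gp F m))
  have h2N : 2 ∣ Nat.card N := by
    rw [hX.card_normalizer]
    rcases hX.two_four with rfl | rfl
    · exact dvd_mul_right _ _
    · exact (show 2 ∣ 4 by norm_num).trans (dvd_mul_right _ _)
  obtain ⟨⟨t, htN⟩, hto⟩ := exists_prime_orderOf_dvd_card' 2 h2N
  rw [Subgroup.orderOf_mk] at hto
  have htt : t * t = 1 := by rw [← pow_two, ← hto, pow_orderOf_eq_one]
  have hti : t⁻¹ = t := inv_eq_of_mul_eq_one_right htt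
  have htX : t ∉ X := fun h => by
    have := Subgroup.orderOf_dvd_natCard X h
    rw [hto] at this
    exact Nat.not_even_iff_odd.mpr hX.odd (even_iff_two_dvd.mpr this)
  have htx : t * x * t⁻¹ ∈ X := (Subgroup.mem_normalizer_iff.mp htN x).mp hxX
  have hy1 : x * (t * x * t⁻¹) = 1 := by
    by_contra hne
    refine htX ?_
    rw [← hX.cent _ (mul_mem hxX htx) hne, Subgroup.mem_centralizer_singleton_iff,
      show t * (x * (t * x * t⁻¹)) = (t * x * t⁻¹) * (t * t) * x * t⁻¹ by group, htt, mul_one,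
      hX.comm _ htx _ hxX, hti]
  have hxt : (x * t) ^ 2 = 1 := by
    rw [pow_two, ← hy1, hti]; group
  obtain ⟨a, s, hs, he⟩ := hinvol _ hxt
  obtain ⟨b, s', hs', he'⟩ := hinvol t (by rw [pow_two, htt])
  exact Or.inl ⟨a, b, s, hs, s', hs', by rw [← he, ← he', mul_assoc, htt, mul_one]⟩

end Suzuki

end CfsgLib.FrakLProd
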