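import Mathlib
import Cfsg.Agent.Lib.Layer.Radical
import Cfsg.Agent.Lib.IsolatedMin.Basic

/-!
# Products of two conjugates of the elementary abelian subgroup in a `Y`-minimal group

`L` is generated by the conjugates of an abelian `p`-subgroup `Y`, the normalizer of `Y` is the only
maximal subgroup above `Y`, and `A = O_p(L)` is the normal closure of `Y ∩ A` and normalizes `Y`.
-/

set_option autoImplicit false
set_option linter.style.haveILetI false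

namespace CfsgLib.FrakLProd

open scoped Pointwise

variable {L : Type*} [Group L]

/-- A conjugate. -/
def cY (Y : Subgroup L) (k : L) : Subgroup L := Y.map (MulAut.conj k).toMonoidHom

theorem mem_cY {Y : Subgroup L} {k x : L} : x ∈ cY Y k ↔ k⁻¹ * x * k ∈ Y := by
  constructor
  · rintro ⟨y, hy, rfl⟩
    simpa [mul_assoc] using hy
  · intro h
    exact ⟨_, h, by simp [mul_assoc]⟩

theorem cY_cY (Y : Subgroup L) (g k : L) : cY (cY Y k) g = cY Y (g * k) := by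
  ext x
  rw [mem_cY, mem_cY, mem_cY]
  simp [mul_assoc]

theorem mem_nor_cY {Y : Subgroup L} {k x : L} :
    x ∈ Subgroup.normalizer (cY Y k : Set L) ↔ k⁻¹ * x * k ∈ Subgroup.normalizer (Y : Set L) := by
  rw [cY, ← Subgroup.map_equiv_normalizer_eq]
  exact mem_cY

/-- The hypotheses. -/
structure Setup (p : ℕ) (Y A : Subgroup L) : Prop where
  eqA : A = Cfsg.pCore p L
  pgroup : IsPGroup p Y
  comm : ∀ a ∈ Y, ∀ b ∈ Y, a * b = b * a
  gen : Subgroup.normalClosure (Y : Set L) = ⊤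
  max : ∀ X, Y ≤ X → X ≠ ⊤ → X ≤ Subgroup.normalizer (Y : Set L)
  proper : Subgroup.normalizer (Y : Set L) ≠ ⊤
  nor : A ≤ Subgroup.normalizer (Y : Set L)
  closure : Subgroup.normalClosure ((Y ⊓ A : Subgroup L) : Set L) = A

/-- The elements of `Y` central in `L`. -/
def zed (Y : Subgroup L) : Subgroup L := Y ⊓ Subgroup.center L

variable {p : ℕ} {Y A : Subgroup L}

theorem comm_z {z : L} (hz : z ∈ zed Y) (g : L) : g * z = z * g := Subgroup.mem_center_iff.mp hz.2 g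

theorem conj_z {z : L} (hz : z ∈ zed Y) (g : L) : g * z * g⁻¹ = z := by
  rw [comm_z hz, mul_inv_cancel_right]

theorem z_le_cY (k : L) : zed Y ≤ cY Y k := fun z hz => mem_cY.mpr (by
  have := conj_z hz k⁻¹
  rw [inv_inv] at this
  rw [this]; exact hz.1)

/-- The elements whose commutator with `a` lies in `zed Y`. -/
def cm (Y : Subgroup L) (a : L) : Subgroup L where
  carrier := {g | g * a * g⁻¹ * a⁻¹ ∈ zed Y}
  one_mem' := by simp
  mul_mem' {g k} hg hk := by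
    have e : g * k * a * (g * k)⁻¹ * a⁻¹ = g * (k * a * k⁻¹ * a⁻¹) * g⁻¹ * (g * a * g⁻¹ * a⁻¹) := by
      group
    show g * k * a * (g * k)⁻¹ * a⁻¹ ∈ zed Y
    rw [e, conj_z hk]
    exact mul_mem hk hg
  inv_mem' {g} hg := by
    have e : g⁻¹ * a * g⁻¹⁻¹ * a⁻¹ = g⁻¹ * (g * a * g⁻¹ * a⁻¹)⁻¹ * g⁻¹⁻¹ := by group
    show g⁻¹ * a * g⁻¹⁻¹ * a⁻¹ ∈ zed Y
    rw [e, conj_z (inv_mem hg)]
    exact inv_mem hg

theorem mem_cm {g a : L} : g ∈ cm Y a ↔ g * a * g⁻¹ * a⁻¹ ∈ zed Y := Iff.rfl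

namespace Setup

variable (h : Setup p Y A)
include h

theorem normalA : A.Normal := h.eqA ▸ CfsgLib.Fitting.pCore_normal p

theorem conjA {a : L} (ha : a ∈ A) (g : L) : g * a * g⁻¹ ∈ A := h.normalA.conj_mem a ha g

theorem pgroupA [Finite L] [Fact p.Prime] : IsPGroup p A := h.eqA ▸ CfsgLib.Fitting.pCore_isPGroup p

theorem pgroup_cY (k : L) : IsPGroup p (cY Y k) := h.pgroup.map _

theorem comm_cY (k : L) {a b : L} (ha : a ∈ cY Y k) (hb : b ∈ cY Y k) : a * b = b * a := by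
  rw [mem_cY] at ha hb
  calc a * b = k * ((k⁻¹ * a * k) * (k⁻¹ * b * k)) * k⁻¹ := by group
    _ = k * ((k⁻¹ * b * k) * (k⁻¹ * a * k)) * k⁻¹ := by rw [h.comm _ ha _ hb]
    _ = b * a := by group

theorem nor_cY (k : L) : A ≤ Subgroup.normalizer (cY Y k : Set L) := fun a ha =>
  mem_nor_cY.mpr (h.nor (by simpa using h.conjA ha k⁻¹))

theorem zed_le [Finite L] [Fact p.Prime] : zed Y ≤ A := by
  haveI : (zed Y).Normal := ⟨fun z hz g => by rw [conj_z hz g]; exact hz⟩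
  rw [h.eqA]
  exact CfsgLib.Fitting.le_pCore inferInstance (h.pgroup.to_le inf_le_left)

theorem max_cY (k : L) (X : Subgroup L) (hX : cY Y k ≤ X) (hne : X ≠ ⊤) :
    X ≤ Subgroup.normalizer (cY Y k : Set L) := by
  intro x hx
  refine mem_nor_cY.mpr (h.max (cY X k⁻¹) (fun y hy => mem_cY.mpr ?_) (fun e => hne ?_)
    (mem_cY.mpr ?_))
  · exact hX (mem_cY.mpr (by simpa [mul_assoc] using hy))
  · refine top_le_iff.mp fun z _ => ?_
    have := mem_cY.mp (e ▸ Subgroup.mem_top (k⁻¹ * z * k) : k⁻¹ * z * k ∈ cY X k⁻¹)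
    simpa [mul_assoc] using this
  · simpa [mul_assoc] using hx

theorem proper_cY (k : L) : Subgroup.normalizer (cY Y k : Set L) ≠ ⊤ := by
  intro e
  refine h.proper (top_le_iff.mp fun z _ => ?_)
  have := mem_nor_cY.mp (e ▸ Subgroup.mem_top (k * z * k⁻¹) :
    k * z * k⁻¹ ∈ Subgroup.normalizer (cY Y k : Set L))
  simpa [mul_assoc] using this

theorem sup_eq_top {k l : L} (hkl : ¬ cY Y l ≤ Subgroup.normalizer (cY Y k : Set L)) :
    cY Y k ⊔ cY Y l = ⊤ := by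
  by_contra hne
  exact hkl (le_sup_right.trans (h.max_cY k _ le_sup_left hne))

theorem inf_mem_zed {k l : L} (hkl : ¬ cY Y l ≤ Subgroup.normalizer (cY Y k : Set L)) {x : L}
    (hx : x ∈ cY Y k) (hx' : x ∈ cY Y l) : x ∈ zed Y := by
  have hc : x ∈ Subgroup.center L := by
    rw [Subgroup.mem_center_iff]
    intro g
    have hle : cY Y k ⊔ cY Y l ≤ Subgroup.centralizer {x} := by
      refine sup_le (fun y hy => ?_) (fun y hy => ?_) <;>
        rw [Subgroup.mem_centralizer_singleton_iff]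
      · exact h.comm_cY k hy hx
      · exact h.comm_cY l hy hx'
    rw [h.sup_eq_top hkl] at hle
    exact Subgroup.mem_centralizer_singleton_iff.mp (hle (Subgroup.mem_top g))
  refine ⟨?_, hc⟩
  have := mem_cY.mp hx
  rwa [Subgroup.mem_center_iff.mp hc k⁻¹, inv_mul_cancel_right] at this

theorem decomp {k l : L} (hkl : ¬ cY Y l ≤ Subgroup.normalizer (cY Y k : Set L)) {a : L}
    (ha : a ∈ A) : ∃ b ∈ cY Y k ⊓ A, ∃ b' ∈ cY Y l ⊓ A, a = b * b' := by
  haveI := h.normalA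
  set B := cY Y k ⊓ A with hB
  set B' := cY Y l ⊓ A with hB'
  have hstab : ∀ u v : L, ∀ y ∈ cY Y u, ∀ b ∈ cY Y v ⊓ A,
      y * b * y⁻¹ ∈ (cY Y u ⊓ A) ⊔ (cY Y v ⊓ A) := by
    intro u v y hy b hb
    rw [show y * b * y⁻¹ = y * (b * y⁻¹ * b⁻¹) * b by group]
    refine mul_mem (le_sup_left (a := cY Y u ⊓ A) ⟨mul_mem hy
      ((Subgroup.mem_normalizer_iff.mp (h.nor_cY u hb.2) y⁻¹).mp (inv_mem hy)), ?_⟩)
      (le_sup_right (a := cY Y u ⊓ A) hb)
    rw [show y * (b * y⁻¹ * b⁻¹) = y * b * y⁻¹ * b⁻¹ by group]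
    exact A.mul_mem (h.conjA hb.2 y) (A.inv_mem hb.2)
  have hself : ∀ u : L, ∀ y ∈ cY Y u, ∀ b ∈ cY Y u ⊓ A, y * b * y⁻¹ ∈ cY Y u ⊓ A := by
    intro u y hy b hb
    rw [h.comm_cY u hy hb.1, mul_inv_cancel_right]
    exact hb
  have hn : (B ⊔ B').Normal := by
    refine ⟨fun x hx g => ?_⟩
    have hle : cY Y k ⊔ cY Y l ≤ Subgroup.normalizer ((B ⊔ B' : Subgroup L) : Set L) := by
      have key : ∀ y ∈ (cY Y k : Set L) ∪ cY Y l, ∀ z ∈ B ⊔ B', y * z * y⁻¹ ∈ B ⊔ B' := by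
        intro y hy z hz
        refine (show B ⊔ B' ≤ (B ⊔ B').comap (MulAut.conj y).toMonoidHom from sup_le ?_ ?_) hz
        · intro b hb
          show y * b * y⁻¹ ∈ B ⊔ B'
          rcases hy with hy | hy
          · exact le_sup_left (b := B') (hself k y hy b hb)
          · rw [sup_comm]; exact hstab l k y hy b hb
        · intro b hb
          show y * b * y⁻¹ ∈ B ⊔ B'
          rcases hy with hy | hy
          · exact hstab k l y hy b hb
          · exact le_sup_right (a := B) (hself l y hy b hb)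
      refine sup_le (fun y hy => ?_) (fun y hy => ?_) <;> rw [Subgroup.mem_normalizer_iff] <;>
        intro z <;> refine ⟨key y (by simp [hy]) z, fun hz => ?_⟩
      · simpa [mul_assoc] using key y⁻¹ (by simp [inv_mem hy]) _ hz
      · simpa [mul_assoc] using key y⁻¹ (by simp [inv_mem hy]) _ hz
    rw [h.sup_eq_top hkl] at hle
    exact (Subgroup.mem_normalizer_iff.mp (hle (Subgroup.mem_top g)) x).mp hx
  have hA : A ≤ B ⊔ B' := by
    conv_lhs => rw [← h.closure]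
    haveI := hn
    refine Subgroup.normalClosure_le_normal fun x hx => ?_
    have hxk : k * x * k⁻¹ ∈ B := ⟨mem_cY.mpr (by simpa [mul_assoc] using hx.1), h.conjA hx.2 k⟩
    have := hn.conj_mem _ (le_sup_left (b := B') hxk) k⁻¹
    simpa [mul_assoc] using this
  have hmem := hA ha
  rw [← SetLike.mem_coe, Subgroup.coe_mul_of_right_le_normalizer_left B B' ?_] at hmem
  · obtain ⟨b, hb, b', hb', e⟩ := hmem
    exact ⟨b, hb, b', hb', e.symm⟩
  · intro b hb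
    rw [Subgroup.mem_normalizer_iff]
    intro z
    have h1 := Subgroup.mem_normalizer_iff.mp (h.nor_cY k hb.2) z
    constructor
    · intro hz; exact ⟨h1.mp hz.1, h.conjA hz.2 b⟩
    · intro hz
      refine ⟨h1.mpr hz.1, ?_⟩
      simpa [mul_assoc] using h.conjA hz.2 b⁻¹

theorem mem_cm_of_mem {a c : L} (ha : a ∈ A) (hc : c ∈ A) : c ∈ cm Y a := by
  obtain ⟨m, hm⟩ : ∃ m, ¬ cY Y m ≤ Subgroup.normalizer (cY Y 1 : Set L) := by
    by_contra! hall
    refine h.proper_cY 1 (top_le_iff.mp (h.gen.ge.trans ((Subgroup.closure_le _).mpr fun z hz => ?_)))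
    obtain ⟨y, hy, hconj⟩ := Group.mem_conjugatesOfSet_iff.mp hz
    obtain ⟨g, rfl⟩ := isConj_iff.mp hconj
    exact hall g ⟨y, hy, rfl⟩
  have key : ∀ x ∈ A, ∀ b, (b ∈ cY Y 1 ⊓ A ∨ b ∈ cY Y m ⊓ A) → b ∈ cm Y x := by
    intro x hx b hb
    obtain ⟨u, hu, v, hv, rfl⟩ := h.decomp hm hx
    have hcomm : ∀ i j : L, ¬ cY Y j ≤ Subgroup.normalizer (cY Y i : Set L) →
        ∀ s ∈ cY Y i ⊓ A, ∀ t ∈ cY Y j ⊓ A, s * t * s⁻¹ * t⁻¹ ∈ zed Y := by
      intro i j hij s hs t ht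
      refine h.inf_mem_zed hij ?_ ?_
      · rw [show s * t * s⁻¹ * t⁻¹ = s * (t * s⁻¹ * t⁻¹) by group]
        exact mul_mem hs.1 ((Subgroup.mem_normalizer_iff.mp (h.nor_cY i ht.2) s⁻¹).mp (inv_mem hs.1))
      · exact mul_mem ((Subgroup.mem_normalizer_iff.mp (h.nor_cY j hs.2) t).mp ht.1) (inv_mem ht.1)
    rw [mem_cm, show b * (u * v) * b⁻¹ * (u * v)⁻¹ =
      (b * u * b⁻¹ * u⁻¹) * (u * (b * v * b⁻¹ * v⁻¹) * u⁻¹) by group]
    rcases hb with hb | hb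
    · rw [h.comm_cY 1 hb.1 hu.1, conj_z (hcomm 1 m hm b hb v hv)]
      simpa using hcomm 1 m hm b hb v hv
    · have h2 : b * u * b⁻¹ * u⁻¹ ∈ zed Y := by
        have := inv_mem (hcomm 1 m hm u hu b hb)
        simpa [mul_assoc] using this
      rw [h.comm_cY m hb.1 hv.1]
      simpa using h2
  obtain ⟨u, hu, v, hv, rfl⟩ := h.decomp hm hc
  exact mul_mem (key a ha u (Or.inl hu)) (key a ha v (Or.inr hv))

theorem exists_not_mem_nor [Finite L] [Fact p.Prime] {k y : L} (hy : y ∈ cY Y k) (hyA : y ∉ A) :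
    ∃ l, y ∉ Subgroup.normalizer (cY Y l : Set L) ∧
      ¬ cY Y l ≤ Subgroup.normalizer (cY Y k : Set L) := by
  obtain ⟨l, hl⟩ : ∃ l, y ∉ Subgroup.normalizer (cY Y l : Set L) := by
    by_contra! hall
    apply hyA
    let K : Subgroup L :=
      { carrier := {x | ∀ g : L, g * x * g⁻¹ ∈ Subgroup.normalizer (Y : Set L)}
        one_mem' := fun g => by simp
        mul_mem' := fun {a b} ha hb g => by
          rw [show g * (a * b) * g⁻¹ = g * a * g⁻¹ * (g * b * g⁻¹) by group]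
          exact mul_mem (ha g) (hb g)
        inv_mem' := fun {a} ha g => by
          rw [show g * a⁻¹ * g⁻¹ = (g * a * g⁻¹)⁻¹ by group]
          exact inv_mem (ha g) }
    have hKn : K.Normal := ⟨fun x hx g g' => by
      rw [show g' * (g * x * g⁻¹) * g'⁻¹ = g' * g * x * (g' * g)⁻¹ by group]
      exact hx _⟩
    have hyK : y ∈ K := fun g => by simpa using mem_nor_cY.mp (hall g⁻¹)
    haveI := hKn
    have hW : ((cY Y k).subgroupOf K).Normal := ⟨fun x hx g => by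
      rw [Subgroup.mem_subgroupOf] at hx ⊢
      have hg : (g : L) ∈ Subgroup.normalizer (cY Y k : Set L) :=
        mem_nor_cY.mpr (by simpa using g.2 k⁻¹)
      exact (Subgroup.mem_normalizer_iff.mp hg _).mp hx⟩
    haveI := hW
    have hS : (cY Y k ⊓ K).IsSubnormal := by
      refine Subgroup.IsSubnormal.step _ K inf_le_right hKn.isSubnormal ?_
      rw [Subgroup.inf_subgroupOf_right]
      exact hW
    rw [h.eqA]
    exact CfsgLib.Layer.le_pCore_of_isSubnormal hS ((h.pgroup_cY k).to_le inf_le_left) ⟨hy, hyK⟩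
  refine ⟨l, hl, fun hle => hl ?_⟩
  have hne : cY Y k ⊔ cY Y l ≠ ⊤ := fun e =>
    h.proper_cY k (top_le_iff.mp (e.ge.trans (sup_le Subgroup.le_normalizer hle)))
  exact (h.max_cY l _ le_sup_right hne) (le_sup_left (b := cY Y l) hy)

/-- An element of `A` centralized modulo `zed Y` by an element of a conjugate lies in it. -/
theorem mem_of_cm [Finite L] [Fact p.Prime] {k y a : L} (hy : y ∈ cY Y k) (hyA : y ∉ A)
    (ha : a ∈ A) (hc : y ∈ cm Y a) : a ∈ cY Y k := by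
  obtain ⟨l, hyl, hkl⟩ := h.exists_not_mem_nor hy hyA
  obtain ⟨b, hb, b', hb', rfl⟩ := h.decomp hkl ha
  refine mul_mem hb.1 ?_
  have e : y * (b * b') * y⁻¹ * (b * b')⁻¹ = b * (y * b' * y⁻¹ * b'⁻¹) * b⁻¹ := by
    calc y * (b * b') * y⁻¹ * (b * b')⁻¹ = y * b * b' * y⁻¹ * b'⁻¹ * b⁻¹ := by group
      _ = b * y * b' * y⁻¹ * b'⁻¹ * b⁻¹ := by rw [h.comm_cY k hy hb.1]
      _ = b * (y * b' * y⁻¹ * b'⁻¹) * b⁻¹ := by group
  have hyb : y ∈ cm Y b' := by
    have h1 : b * (y * b' * y⁻¹ * b'⁻¹) * b⁻¹ ∈ zed Y := e ▸ hc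
    have h2 := conj_z h1 b⁻¹
    rw [mem_cm]
    rw [← h2] at h1
    simpa [mul_assoc] using h1
  have htop : cm Y b' = ⊤ := by
    by_contra hne
    refine hyl ((h.max_cY l _ (fun z hz => ?_) hne) hyb)
    rw [mem_cm, h.comm_cY l hz hb'.1]
    simp
  have h3 : (k * l⁻¹) * b' * (k * l⁻¹)⁻¹ ∈ cY Y k := by
    have := mem_cY.mp hb'.1
    rw [mem_cY]
    simpa [mul_assoc] using this
  have h4 := mem_cm.mp (htop ▸ Subgroup.mem_top (k * l⁻¹) : k * l⁻¹ ∈ cm Y b')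
  have h5 := mul_mem (inv_mem (z_le_cY k h4)) h3
  simpa [mul_assoc] using h5

/-- An element which modulo `A` is a product from two conjugates, and is not a `p`-element,
fixes nothing outside `zed Y`. -/
theorem mem_zed_of_prod [Finite L] [Fact p.Prime] [A.Normal] {x k l u u' a : L}
    (hu : u ∈ cY Y k) (hu' : u' ∈ cY Y l)
    (he : (x : L ⧸ A) = ((u * u' : L) : L ⧸ A)) (hp : ¬ ∃ n : ℕ, (x : L ⧸ A) ^ p ^ n = 1)
    (ha : a ∈ A) (hc : x ∈ cm Y a) : a ∈ zed Y := by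
  have hpe : ∀ X : Subgroup L, IsPGroup p X → u * u' ∈ X → False := by
    intro X hX hmem
    obtain ⟨n, hn⟩ := hX ⟨_, hmem⟩
    exact hp ⟨n, by rw [he, ← QuotientGroup.mk_pow, show (u * u') ^ p ^ n = 1 from
      congrArg Subtype.val hn, QuotientGroup.mk_one]⟩
  have hkl : ¬ cY Y l ≤ Subgroup.normalizer (cY Y k : Set L) := fun hle =>
    hpe _ (IsPGroup.to_sup_of_normal_left' (h.pgroup_cY k) (h.pgroup_cY l) hle)
      (mul_mem (le_sup_left (b := cY Y l) hu) (le_sup_right (a := cY Y k) hu'))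
  have huA : u ∉ A := by
    intro hA
    obtain ⟨n, hn⟩ := h.pgroup_cY l ⟨u', hu'⟩
    refine hp ⟨n, ?_⟩
    rw [he, QuotientGroup.mk_mul, (QuotientGroup.eq_one_iff u).mpr hA, one_mul,
      ← QuotientGroup.mk_pow, show u' ^ p ^ n = 1 from congrArg Subtype.val hn, QuotientGroup.mk_one]
  have hu'A : u' ∉ A := by
    intro hA
    obtain ⟨n, hn⟩ := h.pgroup_cY k ⟨u, hu⟩
    refine hp ⟨n, ?_⟩
    rw [he, QuotientGroup.mk_mul, (QuotientGroup.eq_one_iff u').mpr hA, mul_one,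
      ← QuotientGroup.mk_pow, show u ^ p ^ n = 1 from congrArg Subtype.val hn, QuotientGroup.mk_one]
  have huu : u * u' ∈ cm Y a := by
    have hd : x⁻¹ * (u * u') ∈ A := QuotientGroup.eq.mp he
    have := mul_mem hc (h.mem_cm_of_mem ha hd)
    simpa [mul_assoc] using this
  have hu'c : u' ∈ cm Y a := by
    set z := u * u' * a * (u * u')⁻¹ * a⁻¹ with hz
    have hzz : z ∈ zed Y := huu
    have e : u' * a * u'⁻¹ * a⁻¹ = z * (u⁻¹ * (a * u * a⁻¹)) := by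
      calc u' * a * u'⁻¹ * a⁻¹ = u⁻¹ * z * (a * u * a⁻¹) := by rw [hz]; group
        _ = z * (u⁻¹ * (a * u * a⁻¹)) := by rw [comm_z hzz, mul_assoc]
    refine mem_cm.mpr (h.inf_mem_zed hkl ?_ ?_)
    · rw [e]
      exact mul_mem (z_le_cY k hzz) (mul_mem (inv_mem hu)
        ((Subgroup.mem_normalizer_iff.mp (h.nor_cY k ha) u).mp hu))
    · rw [show u' * a * u'⁻¹ * a⁻¹ = u' * (a * u'⁻¹ * a⁻¹) by group]
      exact mul_mem hu' ((Subgroup.mem_normalizer_iff.mp (h.nor_cY l ha) u'⁻¹).mp (inv_mem hu'))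
  have huc : u ∈ cm Y a := by
    have := mul_mem huu (inv_mem hu'c)
    simpa [mul_assoc] using this
  exact h.inf_mem_zed hkl (h.mem_of_cm hu huA ha huc) (h.mem_of_cm hu' hu'A ha hu'c)

/-- The central case: `x` is modulo `A` central and the square of a product from two conjugates. -/
theorem mem_zed_of_central [Finite L] [Fact p.Prime] [A.Normal] {x j k l u u' a : L} (hp2 : p ≠ 2)
    (hu : u ∈ cY Y k) (hu' : u' ∈ cY Y l)
    (hj : (j : L ⧸ A) = ((u * u' : L) : L ⧸ A)) (hjp : ¬ ∃ n : ℕ, (x : L ⧸ A) ^ p ^ n = 1)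
    (hjj : (j : L ⧸ A) * (j : L ⧸ A) = (x : L ⧸ A))
    (hxc : (x : L ⧸ A) ∈ Subgroup.center (L ⧸ A))
    (ha : a ∈ A) (hc : x ∈ cm Y a) : a ∈ zed Y := by
  have hjp' : ¬ ∃ n : ℕ, (j : L ⧸ A) ^ p ^ n = 1 := fun ⟨n, hn⟩ => hjp ⟨n, by
    rw [← hjj, (Commute.refl _).mul_pow, hn, one_mul]⟩
  let C : Subgroup L :=
    { carrier := {b | b ∈ A ∧ x ∈ cm Y b}
      one_mem' := ⟨one_mem _, by simp [mem_cm]⟩
      mul_mem' := fun {b c} hb hc' => ⟨mul_mem hb.1 hc'.1, by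
        rw [mem_cm, show x * (b * c) * x⁻¹ * (b * c)⁻¹ =
          (x * b * x⁻¹ * b⁻¹) * (b * (x * c * x⁻¹ * c⁻¹) * b⁻¹) by group, conj_z hc'.2]
        exact mul_mem hb.2 hc'.2⟩
      inv_mem' := fun {b} hb => ⟨inv_mem hb.1, by
        rw [mem_cm, show x * b⁻¹ * x⁻¹ * b⁻¹⁻¹ = b⁻¹ * (x * b * x⁻¹ * b⁻¹)⁻¹ * b⁻¹⁻¹ by group,
          conj_z (inv_mem hb.2)]
        exact inv_mem hb.2⟩ }
  have hCconj : ∀ g : L, ∀ b ∈ C, g * b * g⁻¹ ∈ C := by
    rintro g b ⟨hbA, hbc⟩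
    refine ⟨h.conjA hbA g, ?_⟩
    have hg : x⁻¹ * (g⁻¹ * x * g) ∈ A := by
      refine (QuotientGroup.eq_one_iff _).mp ?_
      rw [QuotientGroup.mk_mul, QuotientGroup.mk_mul, QuotientGroup.mk_mul, QuotientGroup.mk_inv,
        QuotientGroup.mk_inv, mul_assoc (g : L ⧸ A)⁻¹, ← Subgroup.mem_center_iff.mp hxc, inv_mul_cancel_left,
        inv_mul_cancel]
    have h1 : g⁻¹ * x * g ∈ cm Y b := by
      have := mul_mem hbc (h.mem_cm_of_mem hbA hg)
      simpa [mul_assoc] using this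
    have h2 : g * ((g⁻¹ * x * g) * b * (g⁻¹ * x * g)⁻¹ * b⁻¹) * g⁻¹ ∈ zed Y := by
      rw [conj_z h1]; exact h1
    rw [mem_cm]
    simpa [mul_assoc] using h2
  have hCA : C ≤ A := fun b hb => hb.1
  have hZC : zed Y ≤ C := fun z hz => ⟨h.zed_le hz, by rw [mem_cm, conj_z hz x, mul_inv_cancel]; exact one_mem _⟩
  suffices hCZ : C ≤ zed Y from hCZ ⟨ha, hc⟩
  by_contra hne
  have hkl : ¬ cY Y l ≤ Subgroup.normalizer (cY Y k : Set L) := by
    intro hle
    obtain ⟨n, hn⟩ := IsPGroup.to_sup_of_normal_left' (h.pgroup_cY k) (h.pgroup_cY l) hle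
      ⟨u * u', mul_mem (le_sup_left (b := cY Y l) hu) (le_sup_right (a := cY Y k) hu')⟩
    exact hjp' ⟨n, by rw [hj, ← QuotientGroup.mk_pow, show (u * u') ^ p ^ n = 1 from
      congrArg Subtype.val hn, QuotientGroup.mk_one]⟩
  have hu'A : u' ∉ A := by
    intro hA
    obtain ⟨n, hn⟩ := h.pgroup_cY k ⟨u, hu⟩
    refine hjp' ⟨n, ?_⟩
    rw [hj, QuotientGroup.mk_mul, (QuotientGroup.eq_one_iff u').mpr hA, mul_one,
      ← QuotientGroup.mk_pow, show u ^ p ^ n = 1 from congrArg Subtype.val hn, QuotientGroup.mk_one]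
  obtain ⟨z, hzC, hzZ, hzfix⟩ : ∃ z ∈ C, z ∉ zed Y ∧ u' ∈ cm Y z := by
    set X := cY Y l ⊔ C
    have hX : IsPGroup p X := IsPGroup.to_sup_of_normal_right' (h.pgroup_cY l) (h.pgroupA.to_le hCA)
      fun g _ => Subgroup.mem_normalizer_iff.mpr fun b => ⟨hCconj g b, fun hb => by
        simpa [mul_assoc] using hCconj g⁻¹ _ hb⟩
    haveI : ((zed Y).subgroupOf X).Normal := ⟨fun b hb m => by
      rw [Subgroup.mem_subgroupOf] at hb ⊢
      rw [Subgroup.coe_mul, Subgroup.coe_mul, Subgroup.coe_inv, conj_z hb]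
      exact hb⟩
    haveI : (C.subgroupOf X).Normal := ⟨fun b hb m => hCconj m b hb⟩
    set π := QuotientGroup.mk' ((zed Y).subgroupOf X) with hπ
    set N' := (C.subgroupOf X).map π
    haveI : N'.Normal := Subgroup.Normal.map inferInstance π (QuotientGroup.mk'_surjective _)
    have hN' : N' ≠ ⊥ := fun e => hne fun b hb => by
      have : π ⟨b, le_sup_right (a := cY Y l) hb⟩ ∈ N' := ⟨_, show b ∈ C from hb, rfl⟩
      rw [e, Subgroup.mem_bot] at this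
      exact Subgroup.mem_subgroupOf.mp ((QuotientGroup.eq_one_iff _).mp this)
    obtain ⟨⟨q, hq⟩, hq0⟩ := Subgroup.ne_bot_iff_exists_ne_one.mp
      (CfsgLib.IsolatedMin.inf_center_ne_bot (hX.to_quotient _) N' hN')
    rw [Subgroup.mem_inf] at hq
    obtain ⟨⟨z, hzX⟩, hzC, rfl⟩ := hq.1
    refine ⟨z, hzC, fun hz => hq0 (Subtype.ext ((QuotientGroup.eq_one_iff _).mpr hz)), ?_⟩
    have h2 := Subgroup.mem_center_iff.mp hq.2 (π ⟨u', le_sup_left (b := C) hu'⟩)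
    have h3 : π (⟨u', le_sup_left (b := C) hu'⟩ * ⟨z, hzX⟩ * (⟨u', le_sup_left (b := C) hu'⟩ : X)⁻¹ *
        (⟨z, hzX⟩ : X)⁻¹) = 1 := by
      rw [map_mul, map_mul, map_mul, map_inv, map_inv, h2]; group
    exact Subgroup.mem_subgroupOf.mp ((QuotientGroup.eq_one_iff _).mp h3)
  have hzA : z ∈ A := hCA hzC
  have hzl : z ∈ cY Y l := h.mem_of_cm hu' hu'A hzA hzfix
  -- `w = z * jzj⁻¹` is fixed by `j`
  have hzj : j * z * j⁻¹ ∈ A := h.conjA hzA j
  have hjj' : (j * j) ∈ cm Y z := by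
    have hd : x⁻¹ * (j * j) ∈ A := QuotientGroup.eq.mp (by rw [QuotientGroup.mk_mul, hjj])
    have := mul_mem hzC.2 (h.mem_cm_of_mem hzA hd)
    simpa [mul_assoc] using this
  have hw : z * (j * z * j⁻¹) ∈ zed Y := by
    refine h.mem_zed_of_prod hu hu' hj hjp' (mul_mem hzA hzj) ?_
    set w' := j * z * j⁻¹ with hw'
    have h1 : j * j * z * (j * j)⁻¹ * z⁻¹ ∈ zed Y := hjj'
    have h2 : w' * z * w'⁻¹ * z⁻¹ ∈ zed Y := mem_cm.mp (h.mem_cm_of_mem hzA hzj)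
    rw [mem_cm, show j * (z * w') * j⁻¹ * (z * w')⁻¹ =
      w' * (j * j * z * (j * j)⁻¹ * z⁻¹) * w'⁻¹ * (w' * z * w'⁻¹ * z⁻¹) by rw [hw']; group,
      conj_z h1]
    exact mul_mem h1 h2
  have hd : (u * u')⁻¹ * j ∈ A := QuotientGroup.eq.mp hj.symm
  have h5 : u * u' * z * (u * u')⁻¹ * (j * z * j⁻¹)⁻¹ ∈ zed Y := by
    set d := (u * u')⁻¹ * j with hd'
    have h6 : d⁻¹ * z * d⁻¹⁻¹ * z⁻¹ ∈ zed Y := mem_cm.mp (inv_mem (h.mem_cm_of_mem hzA hd))
    rw [show u * u' * z * (u * u')⁻¹ * (j * z * j⁻¹)⁻¹ =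
      j * (d⁻¹ * z * d⁻¹⁻¹ * z⁻¹) * j⁻¹ by rw [hd']; group, conj_z h6]
    exact h6
  have h7 : u * z * u⁻¹ * z ∈ zed Y := by
    have h8 : u * (u' * z * u'⁻¹ * z⁻¹) * u⁻¹ ∈ zed Y := by rw [conj_z hzfix]; exact hzfix
    have h9 : z⁻¹ * (z * (j * z * j⁻¹)) * z⁻¹⁻¹ ∈ zed Y := by rw [conj_z hw]; exact hw
    have h10 := mul_mem (inv_mem h8) (mul_mem h5 h9)
    simpa [mul_assoc] using h10
  have hk2 : z * z ∈ cY Y k := by
    have h11 : u * (z * u⁻¹ * z⁻¹) ∈ cY Y k :=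
      mul_mem hu ((Subgroup.mem_normalizer_iff.mp (h.nor_cY k hzA) u⁻¹).mp (inv_mem hu))
    have h12 := mul_mem (inv_mem h11) (z_le_cY k h7)
    simpa [mul_assoc] using h12
  have hz2 : z ^ 2 ∈ zed Y := by
    rw [pow_two]; exact h.inf_mem_zed hkl hk2 (mul_mem hzl hzl)
  obtain ⟨n, hn⟩ := h.pgroupA ⟨z, hzA⟩
  have hn' : z ^ p ^ n = 1 := congrArg Subtype.val hn
  obtain ⟨i, hi⟩ : ∃ i, p ^ n = 2 * i + 1 :=
    ((Fact.out : p.Prime).odd_of_ne_two hp2).pow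
  refine hzZ ?_
  rw [hi, pow_succ, pow_mul] at hn'
  rw [eq_inv_of_mul_eq_one_right hn']
  exact inv_mem (pow_mem hz2 i)

end Setup

/-- `x` is a product of two elements from conjugates of `S`. -/
def Prod2 {Q : Type*} [Group Q] (S : Subgroup Q) (x : Q) : Prop :=
  ∃ g g' : Q, ∃ s ∈ S, ∃ s' ∈ S, x = g * s * g⁻¹ * (g' * s' * g'⁻¹)

/-- Every element of prime order other than `p` is a product of two elements from conjugates
of `S`, or is central and the square of such a product. -/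
def Good (p : ℕ) (Q : Type*) [Group Q] (S : Subgroup Q) : Prop :=
  ∀ x : Q, ∀ r : ℕ, r.Prime → r ≠ p → orderOf x = r →
    Prod2 S x ∨ (p ≠ 2 ∧ x ∈ Subgroup.center Q ∧ ∃ j, Prod2 S j ∧ j * j = x)

theorem Prod2.of_map {Q Q' : Type*} [Group Q] [Group Q'] (e : Q ≃* Q') {S : Subgroup Q} {x : Q}
    (h : Prod2 (S.map e.toMonoidHom) (e x)) : Prod2 S x := by
  obtain ⟨g, g', _, ⟨s, hs, rfl⟩, _, ⟨s', hs', rfl⟩, he⟩ := h
  exact ⟨e.symm g, e.symm g', s, hs, s', hs', e.injective (by simp [he])⟩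

theorem Good.of_map {p : ℕ} {Q Q' : Type*} [Group Q] [Group Q'] (e : Q ≃* Q') {S : Subgroup Q}
    (h : Good p Q' (S.map e.toMonoidHom)) : Good p Q S := by
  intro x r hr hrp hx
  rcases h (e x) r hr hrp (by rw [MulEquiv.orderOf_eq, hx]) with h' | ⟨h2, hc, j, hj, hjj⟩
  · exact Or.inl (Prod2.of_map e h')
  · refine Or.inr ⟨h2, Subgroup.mem_center_iff.mpr fun g => e.injective ?_, e.symm j,
      Prod2.of_map e (by rwa [e.apply_symm_apply]), e.injective (by simp [hjj])⟩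
    rw [map_mul, map_mul]
    exact Subgroup.mem_center_iff.mp hc _

theorem Setup.mem_zed_of_good [Finite L] [Fact p.Prime] (h : Setup p Y A) [A.Normal]
    (hgood : Good p (L ⧸ A) (Y.map (QuotientGroup.mk' A))) {x a : L}
    (hx : ¬ ∃ n : ℕ, x ^ p ^ n = 1) (ha : a ∈ A) (hc : x ∈ cm Y a) : a ∈ zed Y := by
  have hxq : ¬ ∃ n : ℕ, (x : L ⧸ A) ^ p ^ n = 1 := by
    rintro ⟨n, hn⟩
    rw [← QuotientGroup.mk_pow, QuotientGroup.eq_one_iff] at hn
    obtain ⟨n', hn'⟩ := h.pgroupA ⟨_, hn⟩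
    exact hx ⟨n + n', by rw [pow_add, pow_mul]; exact congrArg Subtype.val hn'⟩
  have hn0 : orderOf (x : L ⧸ A) ≠ 0 := (orderOf_pos _).ne'
  obtain ⟨r, hr, hrd, hrp⟩ : ∃ r, r.Prime ∧ r ∣ orderOf (x : L ⧸ A) ∧ r ≠ p := by
    by_contra! hall
    have e := Nat.eq_prime_pow_of_unique_prime_dvd hn0 fun {d} hd hdd => hall d hd hdd
    exact hxq ⟨(orderOf (x : L ⧸ A)).primeFactorsList.length, by rw [← e]; exact pow_orderOf_eq_one _⟩
  set x' := x ^ (orderOf (x : L ⧸ A) / r) with hx'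
  have ho : orderOf (x' : L ⧸ A) = r := by
    rw [hx', QuotientGroup.mk_pow]
    exact orderOf_pow_orderOf_div hn0 hrd
  have hx'q : ¬ ∃ n : ℕ, (x' : L ⧸ A) ^ p ^ n = 1 := by
    rintro ⟨n, hn⟩
    have h1 := orderOf_dvd_of_pow_eq_one hn
    rw [ho] at h1
    exact hrp ((Nat.prime_dvd_prime_iff_eq hr Fact.out).mp (hr.dvd_of_dvd_pow h1))
  have hc' : x' ∈ cm Y a := pow_mem hc _
  have lift : ∀ j : L ⧸ A, Prod2 (Y.map (QuotientGroup.mk' A)) j →
      ∃ k l u u' : L, u ∈ cY Y k ∧ u' ∈ cY Y l ∧ j = ((u * u' : L) : L ⧸ A) := by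
    rintro _ ⟨g, g', _, ⟨s, hs, rfl⟩, _, ⟨s', hs', rfl⟩, rfl⟩
    induction g using QuotientGroup.induction_on with
    | H g =>
      induction g' using QuotientGroup.induction_on with
      | H g' =>
        exact ⟨g, g', g * s * g⁻¹, g' * s' * g'⁻¹, ⟨s, hs, rfl⟩, ⟨s', hs', rfl⟩, rfl⟩
  rcases hgood (x' : L ⧸ A) r hr hrp ho with h' | ⟨h2, hcen, j, hj, hjj⟩
  · obtain ⟨k, l, u, u', hu, hu', he⟩ := lift _ h'
    exact h.mem_zed_of_prod hu hu' he hx'q ha hc'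
  · obtain ⟨k, l, u, u', hu, hu', he⟩ := lift _ hj
    obtain ⟨j, rfl⟩ := QuotientGroup.mk_surjective j
    exact h.mem_zed_of_central h2 hu hu' he hx'q hjj hcen ha hc'

end CfsgLib.FrakLProd
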