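import Cfsg.Agent.Lib.FrobCompl.Conjugate

/-!
# An isolated element centralizing the invariant `p'`-subgroups is central
-/

set_option autoImplicit false

open scoped Pointwise

namespace CfsgLib.IsolatedCentral

universe u

open CfsgLib.FrobCompl in
theorem mem_center_aux : ∀ n : ℕ, ∀ (G : Type u) [Group G] [Finite G], Nat.card G = n →
    ∀ (p : ℕ) [Fact p.Prime] (x : G), (∃ k : ℕ, x ^ p ^ k = 1) →
      (∀ g : G, Commute x (g * x * g⁻¹) → g * x * g⁻¹ = x) →
      (∀ H : Subgroup G, (Nat.card H).Coprime p → (∀ h ∈ H, x * h * x⁻¹ ∈ H) →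
        ∀ h ∈ H, x * h = h * x) → x ∈ Subgroup.center G := by
  intro n
  induction n using Nat.strong_induction_on with
  | _ n ih =>
    intro G _ _ hn p hpf x hxk hiso hb
    have hp := hpf.out
    by_contra hxZ
    set C := Subgroup.centralizer ({x} : Set G) with hC
    have hmem : ∀ y, y ∈ C ↔ Commute x y := fun y => by
      rw [hC, Subgroup.mem_centralizer_iff]
      exact ⟨fun h => h x rfl, fun h z hz => by rw [Set.mem_singleton_iff.mp hz]; exact h⟩
    have hCtop : C ≠ ⊤ := fun h => hxZ (Subgroup.mem_center_iff.mpr fun g =>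
      ((hmem g).mp (h ▸ Subgroup.mem_top g)).eq.symm)
    have hsub : ∀ L : Subgroup G, x ∈ L → L ≠ ⊤ → L ≤ C := by
      intro L hxL hL l hl
      have hlt : Nat.card L < n := by
        by_contra hle
        exact hL (Subgroup.eq_top_of_card_eq L (le_antisymm L.card_le_card_group (hn ▸ not_lt.mp hle)))
      have h1 : (⟨x, hxL⟩ : L) ∈ Subgroup.center L := by
        obtain ⟨k, hk⟩ := hxk
        refine ih _ hlt L rfl p ⟨x, hxL⟩ ⟨k, Subtype.ext hk⟩ (fun g hg => Subtype.ext ?_) ?_
        · exact hiso g (hg.map L.subtype)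
        · intro H hH hinv h hh
          refine Subtype.ext (hb (H.map L.subtype) ?_ ?_ h ⟨h, hh, rfl⟩)
          · rwa [Subgroup.card_map_of_injective L.subtype_injective]
          · rintro _ ⟨a, ha, rfl⟩
            exact ⟨_, hinv a ha, rfl⟩
      exact (hmem l).mpr (congrArg Subtype.val (Subgroup.mem_center_iff.mp h1 ⟨l, hl⟩)).symm
    have hxC : x ∈ C := (hmem x).mpr (Commute.refl x)
    set Z := Subgroup.center G
    have hZC : Z ≤ C := Subgroup.center_le_centralizer _
    -- the centralizer is trivial-intersection modulo the center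
    have hTI : ∀ y ∈ C, ∀ g : G, g⁻¹ * y * g ∈ C → y ∉ Z → g ∈ C := by
      intro y hy g hg hyZ
      have hyC : Subgroup.centralizer ({y} : Set G) ≤ C := by
        refine hsub _ ?_ fun h => hyZ ?_
        · rw [Subgroup.mem_centralizer_iff]
          intro z hz
          rw [Set.mem_singleton_iff.mp hz]
          exact ((hmem y).mp hy).eq.symm
        · refine Subgroup.mem_center_iff.mpr fun z => ?_
          have := (h ▸ Subgroup.mem_top z : z ∈ Subgroup.centralizer ({y} : Set G))
          exact (Subgroup.mem_centralizer_iff.mp this y rfl).symm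
      have h1 : g * x * g⁻¹ ∈ Subgroup.centralizer ({y} : Set G) := by
        rw [Subgroup.mem_centralizer_iff]
        intro z hz
        rw [Set.mem_singleton_iff.mp hz]
        have h2 := ((hmem _).mp hg).map (MulAut.conj g).toMonoidHom
        simp only [MulEquiv.toMonoidHom_eq_coe, MonoidHom.coe_coe, MulAut.conj_apply] at h2
        rw [show g * (g⁻¹ * y * g) * g⁻¹ = y by group] at h2
        exact h2.eq.symm
      have h3 := hiso g ((hmem _).mp (hyC h1))
      refine (hmem g).mpr ?_
      show x * g = g * x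
      conv_lhs => rw [← h3]
      group
    let q := QuotientGroup.mk' Z
    have hker : ∀ y : G, q y ∈ C.map q → y ∈ C := by
      rintro y ⟨c, hc, hcy⟩
      obtain ⟨z, hz, rfl⟩ := (QuotientGroup.mk'_eq_mk' Z).mp hcy
      exact mul_mem hc (hZC hz)
    have hH : Cfsg.IsFrobeniusComplement (C.map q) := by
      refine ⟨fun h => hxZ ?_, fun h => hCtop ?_, fun g hg => ?_⟩
      · have := h ▸ Subgroup.mem_map_of_mem q hxC
        exact (QuotientGroup.eq_one_iff _).mp (Subgroup.mem_bot.mp this)
      · exact eq_top_iff.mpr fun y _ => hker y (h ▸ Subgroup.mem_top _)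
      · obtain ⟨g, rfl⟩ := QuotientGroup.mk'_surjective Z g
        rw [eq_bot_iff]
        rintro _ ⟨⟨y, hy, rfl⟩, h2⟩
        replace h2 : q y ∈ MulAut.conj (q g) • C.map q := h2
        rw [mem_conj_smul, ← map_inv, ← map_mul, ← map_mul] at h2
        by_contra hne
        refine hg (Subgroup.mem_map_of_mem q (hTI y hy g (hker _ h2) fun h => hne ?_))
        exact (QuotientGroup.eq_one_iff _).mpr h
    obtain ⟨N, -, hNn, hc⟩ := exists_kernel_complement hH
    have hcop := isComplement_coprime hH hc
    have hpN : ¬ p ∣ Nat.card N := by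
      intro h
      have hpC : p ∣ Nat.card (C.map q) := by
        obtain ⟨k, hk⟩ := hxk
        have h1 : orderOf (q x) ∣ p ^ k := orderOf_dvd_of_pow_eq_one (by rw [← map_pow, hk, map_one])
        obtain ⟨j, -, hj⟩ := (Nat.dvd_prime_pow hp).mp h1
        refine dvd_trans ?_ ((Subgroup.orderOf_coe (⟨q x, Subgroup.mem_map_of_mem q hxC⟩ : C.map q)).symm ▸
          orderOf_dvd_natCard _)
        rw [hj]
        refine dvd_pow_self p fun hj0 => hxZ ?_
        rw [hj0, pow_zero, orderOf_eq_one_iff] at hj
        exact (QuotientGroup.eq_one_iff _).mp hj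
      exact hp.one_lt.ne' (Nat.eq_one_of_dvd_one (hcop ▸ Nat.dvd_gcd h hpC))
    set K := N.comap q with hK
    haveI hKn : K.Normal := hNn.comap q
    have hZK : Z ≤ K := fun z hz => by
      rw [hK, Subgroup.mem_comap, QuotientGroup.mk'_apply, (QuotientGroup.eq_one_iff z).mpr hz]
      exact one_mem N
    have hidx : (Z.subgroupOf K).index = Nat.card N := by
      have h1 := (Z.subgroupOf K).card_mul_index
      have h2 : Nat.card K = Nat.card Z * Nat.card N := by
        have h3 := Subgroup.index_comap_of_surjective N (QuotientGroup.mk'_surjective Z)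
        have h4 := K.card_mul_index
        rw [h3, ← hK] at *
        have h5 := N.card_mul_index
        have h6 := Z.card_mul_index
        rw [Subgroup.index_eq_card] at h6
        rw [← h6, ← h5, ← mul_assoc] at h4
        exact Nat.eq_of_mul_eq_mul_right (Nat.pos_of_ne_zero Subgroup.index_ne_zero_of_finite) h4
      rw [Nat.card_congr (Subgroup.subgroupOfEquivOfLe hZK).toEquiv, h2] at h1
      exact Nat.eq_of_mul_eq_mul_left Nat.card_pos h1
    have hKC : K ≤ C := by
      rw [← Subgroup.relIndex_eq_one, Subgroup.relIndex]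
      by_contra hne
      obtain ⟨r, hr, hrd⟩ := Nat.exists_prime_and_dvd hne
      haveI := Fact.mk hr
      have hd : (C.subgroupOf K).index ∣ Nat.card N :=
        hidx ▸ Subgroup.index_dvd_of_le (Subgroup.comap_mono (f := K.subtype) hZC)
      have hrp : r ≠ p := fun e => hpN (e ▸ hrd.trans hd)
      -- a Sylow `r`-subgroup of `K` fixed by `x`
      let f : (Subgroup.zpowers x) →* MulAut K :=
        (MulAut.conjNormal : G →* MulAut K).comp (Subgroup.zpowers x).subtype
      letI : MulAction (Subgroup.zpowers x) (Sylow r K) := MulAction.compHom _ f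
      have hP : IsPGroup p (Subgroup.zpowers x) := by
        obtain ⟨k, hk⟩ := hxk
        obtain ⟨j, -, hj⟩ := (Nat.dvd_prime_pow hp).mp (orderOf_dvd_of_pow_eq_one hk)
        exact IsPGroup.of_card ((Nat.card_zpowers x).trans hj)
      have hnd : ¬ p ∣ Nat.card (Sylow r K) := by
        obtain ⟨R⟩ := (inferInstance : Nonempty (Sylow r K))
        intro h
        rw [Sylow.card_eq_index_normalizer R] at h
        refine hpN (h.trans (hidx ▸ Subgroup.index_dvd_of_le ?_))
        refine le_trans ?_ (Subgroup.centralizer_le_normalizer _)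
        intro z hz
        rw [Subgroup.mem_centralizer_iff]
        intro w _
        exact Subtype.ext (Subgroup.mem_center_iff.mp hz (w : G))
      obtain ⟨R, hR⟩ := hP.nonempty_fixed_point_of_prime_not_dvd_card (Sylow r K) hnd
      have hRC : ((R : Subgroup K).map K.subtype) ≤ C := by
        intro h hh
        refine (hmem h).mpr (hb _ ?_ ?_ h hh)
        · rw [Subgroup.card_map_of_injective K.subtype_injective]
          obtain ⟨m, hm⟩ := IsPGroup.iff_card.mp R.2
          rw [hm]
          exact Nat.Coprime.pow_left m ((Nat.coprime_primes hr hp).mpr hrp)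
        · rintro _ ⟨a, ha, rfl⟩
          have h1 := hR ⟨x, Subgroup.mem_zpowers x⟩
          have h2 : f ⟨x, Subgroup.mem_zpowers x⟩ a ∈
              (f ⟨x, Subgroup.mem_zpowers x⟩ • (R : Subgroup K)) :=
            Subgroup.smul_mem_pointwise_smul a _ _ ha
          rw [← Sylow.pointwise_smul_def] at h2
          refine ⟨_, (congrArg Sylow.toSubgroup h1) ▸ h2, ?_⟩
          rfl
      refine R.not_dvd_index (hrd.trans (Subgroup.index_dvd_of_le ?_))
      intro a ha
      exact hRC ⟨a, ha, rfl⟩
    refine hCtop (eq_top_iff.mpr fun y _ => hker y ?_)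
    have hN : N ≤ C.map q := by
      intro a ha
      obtain ⟨b, rfl⟩ := QuotientGroup.mk'_surjective Z a
      exact Subgroup.mem_map_of_mem q (hKC ha)
    have := hc.sup_eq_top
    rw [sup_of_le_right hN] at this
    rw [this]
    exact Subgroup.mem_top _

theorem mem_center {G : Type u} [Group G] [Finite G] {p : ℕ} [Fact p.Prime] (S : Sylow p G) (x : G)
    (hx : x ∈ S) (hU : ∀ g : G, g⁻¹ * x * g ∈ S → g⁻¹ * x * g = x)
    (hb : ∀ H : Subgroup G, (Nat.card H).Coprime p → (∀ h ∈ H, x * h * x⁻¹ ∈ H) →
      ∀ h ∈ H, x * h = h * x) : x ∈ Subgroup.center G := by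
  obtain ⟨k, hk⟩ := S.2 ⟨x, hx⟩
  refine mem_center_aux _ G rfl p x ⟨k, congrArg Subtype.val hk⟩ (fun g hg => ?_) hb
  -- two commuting conjugates lie in a common Sylow subgroup
  set y := g * x * g⁻¹
  have hx' : IsPGroup p (Subgroup.zpowers x) :=
    S.2.to_le (Subgroup.zpowers_le.mpr hx)
  have hy' : IsPGroup p (Subgroup.zpowers y) := by
    have h := hx'.map (MulAut.conj g).toMonoidHom
    rwa [MonoidHom.map_zpowers] at h
  have hsup : IsPGroup p ↥(Subgroup.zpowers x ⊔ Subgroup.zpowers y) := by
    refine hx'.to_sup_of_normal_right' hy' ?_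
    rw [Subgroup.zpowers_le]
    refine Subgroup.centralizer_le_normalizer _ (Subgroup.mem_centralizer_iff.mpr ?_)
    rintro z ⟨i, rfl⟩
    exact (hg.symm.zpow_left i).eq
  obtain ⟨T, hT⟩ := hsup.exists_le_sylow
  obtain ⟨a, rfl⟩ := MulAction.exists_smul_eq G S T
  have h1 : a⁻¹ * x * a ∈ (S : Subgroup G) :=
    FrobCompl.mem_conj_smul.mp (hT (Subgroup.mem_sup_left (Subgroup.mem_zpowers x)))
  have h2 : a⁻¹ * y * a ∈ (S : Subgroup G) :=
    FrobCompl.mem_conj_smul.mp (hT (Subgroup.mem_sup_right (Subgroup.mem_zpowers y)))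
  have e1 := hU a h1
  have e3 : (g⁻¹ * a)⁻¹ * x * (g⁻¹ * a) = a⁻¹ * y * a := by
    show _ = a⁻¹ * (g * x * g⁻¹) * a
    group
  have e2 := hU (g⁻¹ * a) (by rwa [e3])
  rw [e3] at e2
  calc y = a * (a⁻¹ * y * a) * a⁻¹ := by group
    _ = a * (a⁻¹ * x * a) * a⁻¹ := by rw [e2, e1]
    _ = x := by group

end CfsgLib.IsolatedCentral
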