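import Cfsg.Agent.Lib.Subnormal.Sup
import Cfsg.Agent.Lib.Layer.CharPSubnormal

/-!
# A Sylow subgroup meets a join of subnormal subgroups in the join of the intersections
-/

set_option autoImplicit false

open scoped commutatorElement

namespace CfsgLib.SubnormalSylow

universe u

variable {p : ℕ} [hp : Fact p.Prime]

theorem map_inf_eq {G G' : Type*} [Group G] [Group G'] [Finite G] [Finite G'] {f : G →* G'}
    (hf : Function.Surjective f) (S : Sylow p G) {A : Subgroup G} (hA : A.IsSubnormal) :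
    A.map f ⊓ (S : Subgroup G).map f = (A ⊓ (S : Subgroup G)).map f := by
  set Q := (A ⊓ (S : Subgroup G)).map f
  set R := A.map f ⊓ (S : Subgroup G).map f with hR
  have hQR : Q ≤ R := Subgroup.map_inf_le _ _ _
  refine le_antisymm ?_ hQR
  have hRp : IsPGroup p R := ((S.2.map f).to_le inf_le_right)
  obtain ⟨k, hk⟩ := hRp.index (Q.subgroupOf R)
  have h1 : (A ⊓ (S : Subgroup G)).relIndex A = (S : Subgroup G).relIndex A := by
    rw [inf_comm, Subgroup.inf_relIndex_right]
  have h2 : Q.relIndex R ∣ (S : Subgroup G).relIndex A := by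
    rw [← h1]
    refine (Dvd.intro _ (Subgroup.relIndex_mul_relIndex Q R (A.map f) hQR inf_le_left)).trans ?_
    unfold Subgroup.relIndex
    have h3 : Q.subgroupOf (A.map f) =
        ((A ⊓ (S : Subgroup G)).subgroupOf A).map (f.subgroupMap A) := by
      ext ⟨y, hy⟩
      constructor
      · rintro ⟨a, ha, hay⟩
        exact ⟨⟨a, ha.1⟩, ha, Subtype.ext hay⟩
      · rintro ⟨a, ha, hay⟩
        exact ⟨a, ha, congrArg Subtype.val hay⟩
    rw [h3]
    exact Subgroup.index_map_dvd _ (f.subgroupMap_surjective A)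
  rcases Nat.eq_zero_or_pos k with rfl | hpos
  · rw [pow_zero] at hk
    exact Subgroup.relIndex_eq_one.mp hk
  · exfalso
    refine CfsgLib.CharCore.not_dvd_relIndex_of_isSubnormal hA S (dvd_trans ?_ h2)
    rw [Subgroup.relIndex, hk]
    exact dvd_pow_self p hpos.ne'

/-- One factor normal. -/
theorem le_sup_of_normal {G : Type*} [Group G] [Finite G] (S : Sylow p G) {A B : Subgroup G}
    [A.Normal] (hB : B.IsSubnormal) (htop : A ⊔ B = ⊤) :
    (S : Subgroup G) ≤ (A ⊓ (S : Subgroup G)) ⊔ (B ⊓ (S : Subgroup G)) := by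
  intro s hs
  have hm : B.map (QuotientGroup.mk' A) = ⊤ := by
    rw [← Subgroup.map_top_of_surjective _ (QuotientGroup.mk'_surjective A), ← htop, Subgroup.map_sup,
      QuotientGroup.map_mk'_self, bot_sup_eq]
  have h : QuotientGroup.mk' A s ∈ (B ⊓ (S : Subgroup G)).map (QuotientGroup.mk' A) := by
    rw [← map_inf_eq (QuotientGroup.mk'_surjective A) S hB, hm, top_inf_eq]
    exact Subgroup.mem_map_of_mem _ hs
  obtain ⟨b, hb, hbs⟩ := h
  obtain ⟨a, ha, rfl⟩ := (QuotientGroup.mk'_eq_mk' A).mp hbs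
  refine mul_mem (Subgroup.mem_sup_right hb) (Subgroup.mem_sup_left ⟨ha, ?_⟩)
  have h' := mul_mem (inv_mem (show b ∈ (S : Subgroup G) from hb.2)) hs
  rwa [inv_mul_cancel_left] at h'

theorem sylow_le_aux : ∀ n : ℕ, ∀ (G : Type u) [Group G] [Finite G], Nat.card G = n →
    ∀ (S : Sylow p G) (A B : Subgroup G), A.IsSubnormal → B.IsSubnormal → A ⊔ B = ⊤ →
      (S : Subgroup G) ≤ (A ⊓ (S : Subgroup G)) ⊔ (B ⊓ (S : Subgroup G)) := by
  intro n
  induction n using Nat.strong_induction_on with
  | _ n ih =>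
    intro G _ _ hn S A B hA hB htop
    set W := (A ⊓ (S : Subgroup G)) ⊔ (B ⊓ (S : Subgroup G)) with hW
    have hWS : W ≤ (S : Subgroup G) := sup_le inf_le_right inf_le_right
    by_contra hne
    -- modulo a nontrivial normal subgroup
    have hquot : ∀ N : Subgroup G, N.Normal → N ≠ ⊥ →
        ∀ s ∈ (S : Subgroup G), ∃ w ∈ W, ∃ z ∈ N ⊓ (S : Subgroup G), s = w * z := by
      intro N hN hN1 s hs
      haveI := hN
      have hlt : Nat.card (G ⧸ N) < n := by
        rw [← hn, Subgroup.card_eq_card_quotient_mul_card_subgroup N]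
        exact lt_mul_of_one_lt_right Nat.card_pos ((Subgroup.one_lt_card_iff_ne_bot N).mpr hN1)
      let q := QuotientGroup.mk' N
      have hq := QuotientGroup.mk'_surjective N
      have h := ih _ hlt (G ⧸ N) rfl (S.mapSurjective hq) (A.map q) (B.map q) (hA.map hq)
        (hB.map hq) (by rw [← Subgroup.map_sup, htop, Subgroup.map_top_of_surjective _ hq])
      rw [show ((S.mapSurjective hq : Sylow p (G ⧸ N)) : Subgroup (G ⧸ N)) = (S : Subgroup G).map q
        from rfl, map_inf_eq hq S hA, map_inf_eq hq S hB, ← Subgroup.map_sup] at h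
      obtain ⟨w, hw, hws⟩ := h (Subgroup.mem_map_of_mem q hs)
      obtain ⟨z, hz, rfl⟩ := (QuotientGroup.mk'_eq_mk' N).mp hws
      refine ⟨w, hw, z, ⟨hz, ?_⟩, rfl⟩
      have := mul_mem (inv_mem (hWS hw)) hs
      rwa [inv_mul_cancel_left] at this
    -- a minimal normal subgroup is central of order `p`
    have hcen : ∀ N : Subgroup G, N.Normal → N ≠ ⊥ →
        (∀ K : Subgroup G, K.Normal → K ≠ ⊥ → K ≤ N → K = N) →
        N ≤ Subgroup.center G ∧ Nat.card N = p ∧ N ≤ (S : Subgroup G) ∧ ¬ N ≤ W := by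
      intro N hN hN1 hmin
      haveI := hN
      have hNW : ¬ N ⊓ (S : Subgroup G) ≤ W := fun h => hne fun s hs => by
        obtain ⟨w, hw, z, hz, rfl⟩ := hquot N hN hN1 s hs
        exact mul_mem hw (h hz)
      have hnA : N ≤ Subgroup.normalizer (A : Set G) := Subnormal.minimal_normal_le_normalizer hA hmin
      have hnB : N ≤ Subgroup.normalizer (B : Set G) := Subnormal.minimal_normal_le_normalizer hB hmin
      set U := (N ⊓ A) ⊔ (N ⊓ B) with hU
      have hUN : U ≤ N := sup_le inf_le_left inf_le_left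
      have hcom : ∀ (C : Subgroup G), N ≤ Subgroup.normalizer (C : Set G) →
          ∀ c ∈ C, ∀ u ∈ N, ⁅c, u⁆ ∈ N ⊓ C := by
        intro C hC c hc u hu
        refine Subgroup.mem_inf.mpr ⟨?_, ?_⟩
        · rw [commutatorElement_def]
          exact mul_mem (hN.conj_mem u hu c) (inv_mem hu)
        · rw [show ⁅c, u⁆ = c * (u * c⁻¹ * u⁻¹) by rw [commutatorElement_def]; group]
          exact mul_mem hc (((Subgroup.mem_normalizer_iff.mp (hC hu)) _).mp (C.inv_mem hc))
      have hUn : U.Normal := by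
        have key : ∀ c : G, (∀ u ∈ N, ⁅c, u⁆ ∈ U) → c ∈ Subgroup.normalizer (U : Set G) := by
          intro c hc
          refine CfsgLib.Transfer.map_conj_eq_self_iff.mp (Subgroup.eq_of_le_of_card_ge ?_
            (Subgroup.card_map_of_injective (MulAut.conj c).injective).ge)
          rintro _ ⟨u, hu, rfl⟩
          show c * u * c⁻¹ ∈ U
          rw [show c * u * c⁻¹ = ⁅c, u⁆ * u by rw [commutatorElement_def]; group]
          exact mul_mem (hc u (hUN hu)) hu
        rw [← Subgroup.normalizer_eq_top_iff, eq_top_iff, ← htop]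
        exact sup_le (fun a ha => key a fun u hu => Subgroup.mem_sup_left (hcom A hnA a ha u hu))
          (fun b hb => key b fun u hu => Subgroup.mem_sup_right (hcom B hnB b hb u hu))
      rcases eq_or_ne U ⊥ with hU0 | hU1
      · have hNc : N ≤ Subgroup.center G := by
          intro u hu
          have h : (⊤ : Subgroup G) ≤ Subgroup.centralizer ({u} : Set G) := by
            rw [← htop]
            have aux : ∀ (C : Subgroup G), N ≤ Subgroup.normalizer (C : Set G) → N ⊓ C ≤ U →
                C ≤ Subgroup.centralizer ({u} : Set G) := by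
              intro C hC hCU c hc
              rw [Subgroup.mem_centralizer_iff]
              intro v hv
              rw [Set.mem_singleton_iff.mp hv]
              have h1 := hCU (hcom C hC c hc u hu)
              rw [hU0, Subgroup.mem_bot, commutatorElement_eq_one_iff_commute] at h1
              exact h1.eq.symm
            exact sup_le (aux A hnA le_sup_left) (aux B hnB le_sup_right)
          exact Subgroup.mem_center_iff.mpr fun g =>
            ((Subgroup.mem_centralizer_iff.mp (h (Subgroup.mem_top g))) u rfl).symm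
        obtain ⟨z, hz, hz1⟩ : ∃ z ∈ N ⊓ (S : Subgroup G), z ∉ W := SetLike.not_le_iff_exists.mp hNW
        have hz1' : z ≠ 1 := fun h => hz1 (h ▸ one_mem W)
        obtain ⟨k, hk⟩ := IsPGroup.iff_orderOf.mp S.2 ⟨z, hz.2⟩
        rw [← Subgroup.orderOf_coe] at hk
        have hk1 : k ≠ 0 := fun h => hz1' (orderOf_eq_one_iff.mp (by rw [hk, h, pow_zero]))
        set z' := z ^ p ^ (k - 1) with hz'
        have hzk : orderOf z = p ^ k := hk
        have hzo : orderOf z' = p := by
          have e : p ^ k = p * p ^ (k - 1) := by rw [← pow_succ']; congr 1; omega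
          rw [hz', orderOf_pow' _ (pow_ne_zero _ hp.out.ne_zero), hzk, e,
            Nat.gcd_eq_right (dvd_mul_left _ _), Nat.mul_div_cancel _ (pow_pos hp.out.pos _)]
        have hz'N : z' ∈ N := pow_mem hz.1 _
        have hzn : (Subgroup.zpowers z').Normal := ⟨fun u hu g => by
          rw [Subgroup.mem_center_iff.mp (hNc ((Subgroup.zpowers_le.mpr hz'N) hu)) g,
            mul_inv_cancel_right]
          exact hu⟩
        have hNeq : Subgroup.zpowers z' = N := hmin _ hzn (fun h => by
          rw [Subgroup.zpowers_eq_bot] at h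
          rw [h, orderOf_one] at hzo
          exact hp.out.one_lt.ne hzo) (Subgroup.zpowers_le.mpr hz'N)
        refine ⟨hNc, by rw [← hNeq, Nat.card_zpowers, hzo], ?_, fun h => hz1 (h hz.1)⟩
        rw [← hNeq, Subgroup.zpowers_le]
        exact pow_mem hz.2 _
      · have hUeq : U = N := hmin U hUn hU1 hUN
        refine absurd ?_ hNW
        have h1 : ((N ⊓ A).subgroupOf N).Normal :=
          (Subgroup.normal_subgroupOf_iff_le_normalizer inf_le_left).mpr
            ((le_inf Subgroup.le_normalizer hnA).trans Subgroup.inf_normalizer_le_normalizer_inf)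
        haveI := h1
        have hSN := CfsgLib.CharCore.not_dvd_relIndex_of_isSubnormal hN.isSubnormal S
        set SN := (S.2.comap_of_injective N.subtype N.subtype_injective).toSylow hSN
        have h2 := le_sup_of_normal SN (A := (N ⊓ A).subgroupOf N) (B := (N ⊓ B).subgroupOf N)
          (by
            have := hB.subgroupOf (K := N)
            rwa [← Subgroup.inf_subgroupOf_left] at this)
          (by rw [← Subgroup.subgroupOf_sup inf_le_left inf_le_left, ← hU, hUeq, Subgroup.subgroupOf_self])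
        intro x hx
        obtain ⟨y, hy, hyx⟩ : x ∈ ((((N ⊓ A).subgroupOf N) ⊓ (SN : Subgroup N)) ⊔
            (((N ⊓ B).subgroupOf N) ⊓ (SN : Subgroup N))).map N.subtype :=
          ⟨⟨x, hx.1⟩, h2 hx.2, rfl⟩
        have h3 : (((N ⊓ A).subgroupOf N) ⊓ (SN : Subgroup N)) ⊔
            (((N ⊓ B).subgroupOf N) ⊓ (SN : Subgroup N)) ≤ W.comap N.subtype :=
          sup_le (fun v hv => Subgroup.mem_sup_left ⟨hv.1.2, hv.2⟩)
            (fun v hv => Subgroup.mem_sup_right ⟨hv.1.2, hv.2⟩)
        exact hyx ▸ h3 hy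
    -- existence of minimal normal subgroups
    have hexmin : ∀ K : Subgroup G, K.Normal → K ≠ ⊥ → ∃ N : Subgroup G, N.Normal ∧ N ≠ ⊥ ∧ N ≤ K ∧
        ∀ L : Subgroup G, L.Normal → L ≠ ⊥ → L ≤ N → L = N := by
      intro K hK hK1
      obtain ⟨N, hNK, ⟨hN, hN1⟩, hmin⟩ := Finite.exists_le_minimal
        (p := fun N : Subgroup G => N.Normal ∧ N ≠ ⊥) (a := K) ⟨hK, hK1⟩
      exact ⟨N, hN, hN1, hNK, fun L hL hL1 hle => le_antisymm hle (hmin ⟨hL, hL1⟩ hle)⟩
    have hG1 : (⊤ : Subgroup G) ≠ ⊥ := fun h => hne fun s _ => by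
      have h' : s = 1 := Subgroup.mem_bot.mp (h ▸ Subgroup.mem_top s)
      rw [h']
      exact one_mem W
    obtain ⟨N, hN, hN1, -, hmin⟩ := hexmin ⊤ inferInstance hG1
    haveI := hN
    obtain ⟨hNc, hNp, hNS, hNW⟩ := hcen N hN hN1 hmin
    have hNWbot : ∀ u ∈ N, u ∈ W → u = 1 := by
      intro u hu huW
      by_contra hu1
      refine hNW ((Subgroup.eq_of_le_of_card_ge (Subgroup.zpowers_le.mpr hu) ?_).ge.trans
        (Subgroup.zpowers_le.mpr huW))
      rw [hNp, Nat.card_zpowers]
      refine Nat.le_of_dvd (orderOf_pos u) ?_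
      have h1 : orderOf u ∣ Nat.card N := Subgroup.orderOf_coe (⟨u, hu⟩ : N) ▸ orderOf_dvd_natCard _
      rw [hNp] at h1
      rcases (Nat.dvd_prime hp.out).mp h1 with h | h
      · exact absurd (orderOf_eq_one_iff.mp h) hu1
      · exact h.symm.dvd
    have hdec : ∀ s ∈ (S : Subgroup G), ∃ w ∈ W, ∃ z ∈ N, s = w * z := fun s hs => by
      obtain ⟨w, hw, z, hz, h⟩ := hquot N hN hN1 s hs
      exact ⟨w, hw, z, hz.1, h⟩
    have hcm : ∀ z ∈ N, ∀ g : G, Commute z g := fun z hz g =>
      (Subgroup.mem_center_iff.mp (hNc hz) g).symm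
    haveI hW'n : (W.subgroupOf (S : Subgroup G)).Normal := by
      refine ⟨fun v hv g => ?_⟩
      obtain ⟨w, hw, z, hz, hg⟩ := hdec g g.2
      show ((g : G) * v * (g : G)⁻¹) ∈ W
      rw [hg, show w * z * (v : G) * (w * z)⁻¹ = w * (z * v * z⁻¹) * w⁻¹ by group,
        (hcm z hz v).eq, mul_inv_cancel_right]
      exact mul_mem (mul_mem hw hv) (inv_mem hw)
    let qW := QuotientGroup.mk' (W.subgroupOf (S : Subgroup G))
    let g₀ : N →* (S : Subgroup G) ⧸ W.subgroupOf (S : Subgroup G) :=
      qW.comp (Subgroup.inclusion hNS)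
    haveI : IsCyclic N := isCyclic_of_prime_card hNp
    have hg₀ : Function.Surjective g₀ := by
      intro x
      obtain ⟨s, rfl⟩ := QuotientGroup.mk'_surjective _ x
      obtain ⟨w, hw, z, hz, hs⟩ := hdec s s.2
      refine ⟨⟨z, hz⟩, ?_⟩
      refine (QuotientGroup.mk'_eq_mk' _).mpr ⟨⟨w, hWS hw⟩, hw, Subtype.ext ?_⟩
      show z * w = s
      rw [hs, (hcm z hz w).eq]
    haveI : IsCyclic ((S : Subgroup G) ⧸ W.subgroupOf (S : Subgroup G)) :=
      isCyclic_of_surjective g₀ hg₀
    letI : CommGroup ((S : Subgroup G) ⧸ W.subgroupOf (S : Subgroup G)) := IsCyclic.commGroup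
    let V := MonoidHom.transfer qW
    have hVN : ∀ u ∈ N, V u = 1 → u = 1 := by
      intro u hu hV
      have key : ∀ (k : ℕ) (g₀ : G), g₀⁻¹ * u ^ k * g₀ ∈ (S : Subgroup G) →
          g₀⁻¹ * u ^ k * g₀ = u ^ k := fun k g₀ _ => by
        rw [mul_assoc, ((hcm u hu g₀).pow_left k).eq, inv_mul_cancel_left]
      rw [show V u = _ from MonoidHom.transfer_eq_pow qW u key, QuotientGroup.mk'_apply,
        QuotientGroup.eq_one_iff] at hV
      have h1 : u ^ (S : Subgroup G).index = 1 := hNWbot _ (pow_mem hu _) hV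
      have h2 : orderOf u ∣ p := hNp ▸ Subgroup.orderOf_coe (⟨u, hu⟩ : N) ▸ orderOf_dvd_natCard _
      rcases (Nat.dvd_prime hp.out).mp h2 with h | h
      · exact orderOf_eq_one_iff.mp h
      · refine absurd ?_ S.not_dvd_index
        have h3 := orderOf_dvd_of_pow_eq_one h1
        rwa [h] at h3
    by_cases hker : V.ker = ⊥
    · -- then the group has order `p`
      have hGS : (⊤ : Subgroup G) ≤ N := by
        intro g _
        obtain ⟨u, hu⟩ : ∃ u : N, V u = V g := by
          have hinj : Function.Injective (V.comp N.subtype) := (injective_iff_map_eq_one _).mpr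
            fun u hu => Subtype.ext (hVN u u.2 hu)
          have hc : Nat.card ((S : Subgroup G) ⧸ W.subgroupOf (S : Subgroup G)) ≤ Nat.card N :=
            Nat.card_le_card_of_surjective _ hg₀
          exact (hinj.bijective_of_nat_card_le hc).2 (V g)
        rw [← (MonoidHom.ker_eq_bot_iff V).mp hker hu]
        exact u.2
      have hone : ∀ C : Subgroup G, C = ⊥ ∨ C = ⊤ := fun C => by
        rcases eq_or_ne C ⊥ with h | h
        · exact Or.inl h
        · refine Or.inr (top_le_iff.mp (hGS.trans ?_))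
          obtain ⟨c, hc, hc1⟩ := (Subgroup.bot_or_exists_ne_one C).resolve_left h
          have hcN : c ∈ N := hGS (Subgroup.mem_top c)
          refine (Subgroup.eq_of_le_of_card_ge (Subgroup.zpowers_le.mpr hcN) ?_).ge.trans
            (Subgroup.zpowers_le.mpr hc)
          rw [hNp, Nat.card_zpowers]
          have h2 : orderOf c ∣ p := hNp ▸ Subgroup.orderOf_coe (⟨c, hcN⟩ : N) ▸ orderOf_dvd_natCard _
          rcases (Nat.dvd_prime hp.out).mp h2 with h | h
          · exact absurd (orderOf_eq_one_iff.mp h) hc1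
          · exact h.ge
      apply hne
      rcases hone A with rfl | rfl
      · rw [bot_sup_eq] at htop
        exact fun s hs => Subgroup.mem_sup_right ⟨htop ▸ Subgroup.mem_top s, hs⟩
      · exact fun s hs => Subgroup.mem_sup_left ⟨Subgroup.mem_top s, hs⟩
    · obtain ⟨M, hM, hM1, hMX, hminM⟩ := hexmin V.ker inferInstance hker
      obtain ⟨hMc, hMp, hMS, hMW⟩ := hcen M hM hM1 hminM
      obtain ⟨m, hm, hm1⟩ : ∃ m ∈ M, m ≠ 1 := (Subgroup.bot_or_exists_ne_one M).resolve_left hM1
      obtain ⟨w, hw, z, hz, hmw⟩ := hdec m (hMS hm)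
      have hmN : m ∉ N := fun h => hm1 (hVN m h (MonoidHom.mem_ker.mp (hMX hm)))
      have hw1 : w ≠ 1 := fun h => hmN (by rw [hmw, h, one_mul]; exact hz)
      have hwc : w ∈ Subgroup.center G := by
        rw [show w = m * z⁻¹ by rw [hmw, mul_inv_cancel_right]]
        exact mul_mem (hMc hm) (inv_mem (hNc hz))
      refine hne fun s hs => ?_
      have hzn : (Subgroup.zpowers w).Normal := ⟨fun u hu g => by
        rw [Subgroup.mem_center_iff.mp ((Subgroup.zpowers_le.mpr hwc) hu) g, mul_inv_cancel_right]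
        exact hu⟩
      obtain ⟨w', hw', z', hz', rfl⟩ := hquot _ hzn (by rwa [ne_eq, Subgroup.zpowers_eq_bot]) s hs
      exact mul_mem hw' (Subgroup.zpowers_le.mpr hw hz'.1)

theorem sylow_inf_sup {G : Type u} [Group G] [Finite G] (S : Sylow p G) {A B : Subgroup G}
    (hA : A.IsSubnormal) (hB : B.IsSubnormal) :
    (A ⊔ B) ⊓ (S : Subgroup G) = (A ⊓ (S : Subgroup G)) ⊔ (B ⊓ (S : Subgroup G)) := by
  refine le_antisymm ?_ (sup_le (inf_le_inf_right _ le_sup_left) (inf_le_inf_right _ le_sup_right))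
  set J := A ⊔ B with hJ
  set SJ := (S.2.comap_of_injective J.subtype J.subtype_injective).toSylow
    (CfsgLib.CharCore.not_dvd_relIndex_of_isSubnormal (Subnormal.isSubnormal_sup hA hB) S)
  have h := sylow_le_aux _ J rfl SJ (A.subgroupOf J) (B.subgroupOf J) hA.subgroupOf hB.subgroupOf
    (by rw [← Subgroup.subgroupOf_sup le_sup_left le_sup_right]; exact Subgroup.subgroupOf_self J)
  intro x hx
  have h3 : ((A.subgroupOf J) ⊓ (SJ : Subgroup J)) ⊔ ((B.subgroupOf J) ⊓ (SJ : Subgroup J)) ≤
      ((A ⊓ (S : Subgroup G)) ⊔ (B ⊓ (S : Subgroup G))).comap J.subtype :=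
    sup_le (fun v hv => Subgroup.mem_sup_left ⟨hv.1, hv.2⟩)
      (fun v hv => Subgroup.mem_sup_right ⟨hv.1, hv.2⟩)
  exact h3 (h (show (⟨x, hx.1⟩ : J) ∈ (SJ : Subgroup J) from hx.2))

end CfsgLib.SubnormalSylow
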