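import Cfsg.Prelude.Def_LocalEven
import Cfsg.Agent.S2805
import Cfsg.Agent.Lib.LocalEven.SubnormalSylow

/-!
In a group of local characteristic `p` Kieler's lemma holds for every subnormal subgroup meeting a
Sylow subgroup nontrivially; the point stabilizer of a join of subnormal subgroups follows.
-/

set_option autoImplicit false
set_option linter.style.haveILetI false

namespace CfsgLib.PointStabilizer

open Cfsg.Agent.S2805 (zset)

variable {H : Type*} [Group H] [Finite H] {p : ℕ} [Fact p.Prime]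

omit [Finite H] [Fact p.Prime] in
theorem centralizer_omegaOne (P : Subgroup H) :
    Subgroup.centralizer (Cfsg.omegaOne p (P ⊓ Subgroup.centralizer (P : Set H)) : Set H) =
      Subgroup.centralizer (zset p P) := by
  rw [Cfsg.omegaOne, Subgroup.centralizer_closure]
  rfl

omit [Finite H] [Fact p.Prime] in
theorem centralizer_zset_map {M : Subgroup H} (P : Subgroup M) (x : M) :
    x ∈ Subgroup.centralizer (zset p P) ↔ (x : H) ∈ Subgroup.centralizer (zset p (P.map M.subtype)) := by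
  constructor
  · rintro hx z ⟨⟨⟨w, hw, rfl⟩, hzc⟩, hzp⟩
    refine congrArg Subtype.val (hx w ⟨⟨hw, fun u hu => Subtype.ext (hzc u ⟨u, hu, rfl⟩)⟩, ?_⟩)
    exact Subtype.ext hzp
  · rintro hx z ⟨⟨hz, hzc⟩, hzp⟩
    refine Subtype.ext (hx z ⟨⟨⟨z, hz, rfl⟩, ?_⟩, ?_⟩)
    · rintro _ ⟨u, hu, rfl⟩
      exact congrArg Subtype.val (hzc u hu)
    · exact congrArg Subtype.val hzp

theorem exists_mem_zset {P : Subgroup H} (hP : IsPGroup p P) (hne : P ≠ ⊥) :
    ∃ z ∈ zset p P, z ≠ 1 := by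
  haveI : Nontrivial P := (Subgroup.nontrivial_iff_ne_bot P).mpr hne
  haveI := hP.center_nontrivial
  obtain ⟨k, hk0, hk⟩ := (hP.to_subgroup (Subgroup.center P)).nontrivial_iff_card.mp inferInstance
  obtain ⟨z, hz⟩ := exists_prime_orderOf_dvd_card' (G := Subgroup.center P) p (hk ▸ dvd_pow_self p hk0.ne')
  refine ⟨((z : P) : H), ⟨⟨(z : P).2, fun u hu => ?_⟩, ?_⟩, ?_⟩
  · exact congrArg Subtype.val (Subgroup.mem_center_iff.mp z.2 ⟨u, hu⟩)
  · rw [← Subgroup.coe_pow, ← Subgroup.coe_pow, ← hz, pow_orderOf_eq_one]; rfl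
  · intro h
    rw [show z = 1 from Subtype.ext (Subtype.ext h), orderOf_one] at hz
    exact (Fact.out : p.Prime).one_lt.ne hz

/-- Kieler's lemma inside the normalizer of a nontrivial `p`-subgroup. -/
theorem kieler_local (hH : Cfsg.IsOfLocalCharacteristic p H) (T : Sylow p H) {L : Subgroup H}
    (hL : L.IsSubnormal) (Z : Subgroup H) (hZ : IsPGroup p Z) (hZ1 : Z ≠ ⊥)
    (hTZ : (T : Subgroup H) ≤ Subgroup.normalizer (Z : Set H)) {x : H} (hx : x ∈ L)
    (hxZ : x ∈ Subgroup.normalizer (Z : Set H)) :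
    x ∈ Subgroup.centralizer (zset p (T : Subgroup H)) ↔
      x ∈ Subgroup.centralizer (zset p ((T : Subgroup H) ⊓ L)) := by
  set M := Subgroup.normalizer (Z : Set H) with hM
  have h := Cfsg.Agent.S2805.result (hH.2 Z hZ hZ1) (T.subtype hTZ) (L.subgroupOf M) hL.subgroupOf
  rw [centralizer_omegaOne, centralizer_omegaOne] at h
  have e1 : ((T.subtype hTZ : Sylow p M) : Subgroup M).map M.subtype = (T : Subgroup H) := by
    rw [Sylow.coe_subtype, Subgroup.subgroupOf_map_subtype, inf_eq_left.mpr hTZ]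
  have e2 : (((T.subtype hTZ : Sylow p M) : Subgroup M) ⊓ L.subgroupOf M).map M.subtype =
      (T : Subgroup H) ⊓ L := by
    rw [Sylow.coe_subtype, Subgroup.map_inf _ _ _ M.subtype_injective,
      Subgroup.subgroupOf_map_subtype, Subgroup.subgroupOf_map_subtype, inf_eq_left.mpr hTZ,
      inf_comm L M, ← inf_assoc, inf_eq_left.mpr hTZ]
  have h' := SetLike.ext_iff.mp h (⟨x, hxZ⟩ : M)
  simp only [Subgroup.mem_inf, Subgroup.mem_subgroupOf, centralizer_zset_map] at h'
  erw [e1, e2] at h'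
  exact ⟨fun hc => (h'.mp ⟨hx, hc⟩).2, fun hc => (h'.mpr ⟨hx, hc⟩).2⟩

/-- Kieler's lemma in a group of local characteristic `p`. -/
theorem kieler_normal (hH : Cfsg.IsOfLocalCharacteristic p H) (T : Sylow p H) {L : Subgroup H}
    [hLn : L.Normal] (hne : (T : Subgroup H) ⊓ L ≠ ⊥) :
    L ⊓ Subgroup.centralizer (zset p (T : Subgroup H)) =
      L ⊓ Subgroup.centralizer (zset p ((T : Subgroup H) ⊓ L)) := by
  -- the centralizer of the set `zset p P` normalizes the group it generates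
  have key : ∀ P : Subgroup H, P ≤ (T : Subgroup H) → P ≠ ⊥ →
      (∀ t ∈ (T : Subgroup H), ∀ z ∈ zset p P, t * z * t⁻¹ ∈ zset p P) →
      ∀ x ∈ L, x ∈ Subgroup.centralizer (zset p P) →
        (x ∈ Subgroup.centralizer (zset p (T : Subgroup H)) ↔
          x ∈ Subgroup.centralizer (zset p ((T : Subgroup H) ⊓ L))) := by
    intro P hPT hP1 hconj x hx hxP
    set Z := Subgroup.closure (zset p P) with hZ
    have hZT : Z ≤ (T : Subgroup H) := (Subgroup.closure_le _).mpr fun z hz => hPT hz.1.1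
    refine kieler_local hH T hLn.isSubnormal Z (T.2.to_le hZT) ?_ ?_ hx ?_
    · obtain ⟨z, hz, hz1⟩ := exists_mem_zset (T.2.to_le hPT) hP1
      exact fun h => hz1 (Subgroup.mem_bot.mp (h ▸ Subgroup.subset_closure hz))
    · intro t ht
      have hle : ∀ t ∈ (T : Subgroup H), Z ≤ Z.comap (MulAut.conj t).toMonoidHom := fun t ht =>
        (Subgroup.closure_le _).mpr fun z hz => Subgroup.subset_closure (hconj t ht z hz)
      refine Subgroup.mem_normalizer_iff.mpr fun z => ⟨fun hz => hle t ht hz, fun hz => ?_⟩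
      have := hle t⁻¹ (inv_mem ht) hz
      simpa [mul_assoc] using this
    · refine Subgroup.centralizer_le_normalizer _ ?_
      rw [Subgroup.centralizer_closure]
      exact hxP
  have hT1 : (T : Subgroup H) ≠ ⊥ := fun h => hne (by rw [h, bot_inf_eq])
  have hconjT : ∀ t ∈ (T : Subgroup H), ∀ z ∈ zset p (T : Subgroup H), t * z * t⁻¹ ∈ zset p (T : Subgroup H) := by
    intro t ht z hz
    rwa [show t * z * t⁻¹ = z by rw [hz.1.2 t ht, mul_inv_cancel_right]]
  have hTL : ∀ t ∈ (T : Subgroup H), ∀ u ∈ (T : Subgroup H) ⊓ L, t * u * t⁻¹ ∈ (T : Subgroup H) ⊓ L :=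
    fun t ht u hu => Subgroup.mem_inf.mpr ⟨mul_mem (mul_mem ht hu.1) (inv_mem ht), hLn.conj_mem u hu.2 t⟩
  have hconjL : ∀ t ∈ (T : Subgroup H), ∀ z ∈ zset p ((T : Subgroup H) ⊓ L),
      t * z * t⁻¹ ∈ zset p ((T : Subgroup H) ⊓ L) := by
    intro t ht z hz
    refine ⟨⟨hTL t ht z hz.1.1, fun u hu => ?_⟩, by rw [conj_pow, hz.2, mul_one, mul_inv_cancel]⟩
    have h1 := hz.1.2 _ (hTL t⁻¹ (inv_mem ht) u hu)
    calc u * (t * z * t⁻¹) = t * ((t⁻¹ * u * t⁻¹⁻¹) * z) * t⁻¹ := by group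
      _ = t * (z * (t⁻¹ * u * t⁻¹⁻¹)) * t⁻¹ := by rw [h1]
      _ = t * z * t⁻¹ * u := by group
  ext x
  simp only [Subgroup.mem_inf]
  exact ⟨fun h => ⟨h.1, (key _ le_rfl hT1 hconjT x h.1 h.2).mp h.2⟩,
    fun h => ⟨h.1, (key _ inf_le_left hne hconjL x h.1 h.2).mpr h.2⟩⟩

/-- Local characteristic `p` passes to subnormal subgroups of order divisible by `p`. -/
theorem localChar_of_subnormal (hH : Cfsg.IsOfLocalCharacteristic p H) {K : Subgroup H}
    (hK : K.IsSubnormal) (hp : p ∣ Nat.card K) : Cfsg.IsOfLocalCharacteristic p K := by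
  refine ⟨hp, fun P hP hP1 => ?_⟩
  set P' := P.map K.subtype with hP'
  set N := Subgroup.normalizer (P' : Set H) with hN
  have hP'1 : P' ≠ ⊥ := fun h => hP1 ((Subgroup.map_eq_bot_iff_of_injective _ K.subtype_injective).mp h)
  have hcp := CfsgLib.CharCore.cp_of_isSubnormal (hK.subgroupOf (K := N)) (hH.2 P' (hP.map _) hP'1)
  have hmem : ∀ k : K, (k : H) ∈ N ↔ k ∈ Subgroup.normalizer (P : Set K) := by
    intro k
    rw [hN, Subgroup.mem_normalizer_iff, Subgroup.mem_normalizer_iff]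
    constructor
    · intro h u
      have h1 := h u
      rw [hP', Subgroup.mem_map, Subgroup.mem_map] at h1
      constructor
      · intro hu
        obtain ⟨w, hw, hwe⟩ := h1.mp ⟨u, hu, rfl⟩
        rwa [show k * u * k⁻¹ = w from Subtype.ext hwe.symm]
      · intro hu
        obtain ⟨w, hw, hwe⟩ := h1.mpr ⟨_, hu, rfl⟩
        rwa [show u = w from Subtype.ext hwe.symm]
    · intro h u
      constructor
      · rintro ⟨w, hw, rfl⟩
        exact ⟨_, (h w).mp hw, rfl⟩
      · rintro ⟨w, hw, hwe⟩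
        refine ⟨k⁻¹ * w * k, (h _).mpr ?_, ?_⟩
        · simpa [mul_assoc] using hw
        · change (k : H)⁻¹ * (w : H) * k = u
          change (w : H) = k * u * (k : H)⁻¹ at hwe
          rw [hwe]; group
  let e : ↥(K.subgroupOf N) ≃* ↥(Subgroup.normalizer (P : Set K)) :=
    { toFun := fun x => ⟨⟨((x : N) : H), x.2⟩, (hmem _).mp (x : N).2⟩
      invFun := fun y => ⟨⟨((y : K) : H), (hmem _).mpr y.2⟩, (y : K).2⟩
      left_inv := fun _ => rfl
      right_inv := fun _ => rfl
      map_mul' := fun _ _ => rfl }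
  exact CfsgLib.CharCore.cp_congr e hcp

/-- Kieler's lemma for a subnormal subgroup meeting the Sylow subgroup nontrivially. -/
theorem kieler (hH : Cfsg.IsOfLocalCharacteristic p H) (T : Sylow p H) {L : Subgroup H}
    (hL : L.IsSubnormal) (hne : (T : Subgroup H) ⊓ L ≠ ⊥) :
    L ⊓ Subgroup.centralizer (zset p (T : Subgroup H)) =
      L ⊓ Subgroup.centralizer (zset p ((T : Subgroup H) ⊓ L)) := by
  induction hL with
  | top => rw [inf_top_eq]
  | step L K hle hsub hn ih =>
    haveI := hn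
    have hK : (T : Subgroup H) ⊓ K ≠ ⊥ := fun h => hne (le_bot_iff.mp (h ▸ inf_le_inf_left _ hle))
    have hne' : ((T : Subgroup H) ⊓ K).subgroupOf K ≠ ⊥ := fun h => hK <| by
      rw [Subgroup.subgroupOf_eq_bot] at h
      exact disjoint_self.mp (h.mono_right inf_le_right)
    set TK := (T.2.comap_of_injective K.subtype K.subtype_injective).toSylow
      (CfsgLib.CharCore.not_dvd_relIndex_of_isSubnormal hsub T) with hTK
    have e1 : (TK : Subgroup K).map K.subtype = (T : Subgroup H) ⊓ K :=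
      Subgroup.subgroupOf_map_subtype _ _
    have e2 : ((TK : Subgroup K) ⊓ L.subgroupOf K).map K.subtype = (T : Subgroup H) ⊓ L := by
      rw [Subgroup.map_inf _ _ _ K.subtype_injective, e1, Subgroup.subgroupOf_map_subtype, inf_assoc,
        inf_comm L K, ← inf_assoc K, inf_idem, inf_comm K, inf_eq_left.mpr hle]
    have hTL : (TK : Subgroup K) ⊓ L.subgroupOf K ≠ ⊥ := fun h => hne (by
      rw [← e2, h, Subgroup.map_bot])
    have hpK : p ∣ Nat.card K := by
      obtain ⟨z, hz, hz1⟩ := exists_mem_zset (TK.2.to_le inf_le_left) hTL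
      rw [← orderOf_eq_prime hz.2 hz1]
      exact orderOf_dvd_natCard z
    have h := kieler_normal (localChar_of_subnormal hH hsub hpK) TK hTL
    ext x
    simp only [Subgroup.mem_inf]
    refine and_congr_right fun hxL => ?_
    have hxK := hle hxL
    have h1 := SetLike.ext_iff.mp (ih hK) x
    simp only [Subgroup.mem_inf, hxK, true_and] at h1
    rw [h1]
    have h2 := SetLike.ext_iff.mp h ⟨x, hxK⟩
    simp only [Subgroup.mem_inf, Subgroup.mem_subgroupOf, centralizer_zset_map, e1, e2, hxL, true_and] at h2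
    exact h2

omit [Finite H] in
/-- A subnormal subgroup containing a Sylow `p`-subgroup contains every `p`-element. -/
theorem mem_of_subnormal_of_not_dvd {R : Subgroup H} (hR : R.IsSubnormal) (h : ¬ p ∣ R.index)
    {x : H} (hx : ∃ k : ℕ, orderOf x = p ^ k) : x ∈ R := by
  induction hR with
  | top => exact Subgroup.mem_top x
  | step R K hle _ hn ih =>
    haveI := hn
    have hidx := Subgroup.relIndex_mul_index hle
    have hxK : x ∈ K := ih fun hd => h (hidx ▸ Dvd.dvd.mul_left hd _)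
    by_contra hxR
    obtain ⟨k, hk⟩ := hx
    set y : ↥K ⧸ R.subgroupOf K := QuotientGroup.mk ⟨x, hxK⟩
    have hy1 : orderOf y ∣ p ^ k := by
      rw [← hk, ← Subgroup.orderOf_mk x hxK]
      exact orderOf_map_dvd (QuotientGroup.mk' (R.subgroupOf K)) _
    have hy2 : orderOf y ∣ R.relIndex K := orderOf_dvd_natCard y
    have hcop : (p ^ k).Coprime (R.relIndex K) := Nat.Coprime.pow_left k
      ((Fact.out : p.Prime).coprime_iff_not_dvd.mpr fun hd => h (hidx ▸ Dvd.dvd.mul_right hd _))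
    have hy : y = 1 := orderOf_eq_one_iff.mp (Nat.eq_one_of_dvd_coprimes hcop hy1 hy2)
    exact hxR ((QuotientGroup.eq_one_iff (⟨x, hxK⟩ : K)).mp hy)

/-- The point stabilizer of a join of subnormal subgroups. -/
theorem pointStabilizer_sup (hH : Cfsg.IsOfLocalCharacteristic p H) (T : Sylow p H) {L₁ L₂ : Subgroup H}
    (h₁ : L₁.IsSubnormal) (h₂ : L₂.IsSubnormal) :
    Cfsg.pointStabilizer p (L₁ ⊔ L₂) ((T : Subgroup H) ⊓ (L₁ ⊔ L₂)) =
      Cfsg.pointStabilizer p L₁ ((T : Subgroup H) ⊓ L₁) ⊔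
        Cfsg.pointStabilizer p L₂ ((T : Subgroup H) ⊓ L₂) := by
  set C := Subgroup.centralizer (zset p (T : Subgroup H)) with hC
  set Pel : Subgroup H → Subgroup H := fun L =>
    Subgroup.closure {x : H | x ∈ L ⊓ C ∧ ∃ k : ℕ, orderOf x = p ^ k} with hPel
  -- each point stabilizer is generated by the `p`-elements centralizing `Ω₁ Z(T)`
  have hrw : ∀ L : Subgroup H, L.IsSubnormal →
      Cfsg.pointStabilizer p L ((T : Subgroup H) ⊓ L) = Pel L := by
    intro L hL
    by_cases hne : (T : Subgroup H) ⊓ L = ⊥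
    · have hone : ∀ x : H, x ∈ L → (∃ k : ℕ, orderOf x = p ^ k) → x = 1 := by
        rintro x hx ⟨k, hk⟩
        have hnd := CfsgLib.CharCore.not_dvd_relIndex_of_isSubnormal hL T
        rw [← Subgroup.inf_relIndex_right, hne, Subgroup.relIndex_bot_left] at hnd
        have h1 : orderOf x ∣ Nat.card L := Subgroup.orderOf_dvd_natCard L hx
        exact orderOf_eq_one_iff.mp (Nat.eq_one_of_dvd_coprimes
          (Nat.Coprime.pow_left k ((Fact.out : p.Prime).coprime_iff_not_dvd.mpr hnd)) (hk ▸ dvd_rfl) h1)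
      apply le_antisymm <;> refine (Subgroup.closure_le _).mpr fun x hx => ?_ <;>
        rw [hone x hx.1.1 hx.2] <;> exact one_mem _
    · rw [Cfsg.pointStabilizer, centralizer_omegaOne, ← kieler hH T hL hne]
  have hsn := CfsgLib.Subnormal.isSubnormal_sup h₁ h₂
  rw [hrw _ hsn, hrw _ h₁, hrw _ h₂]
  set J := L₁ ⊔ L₂ with hJ
  refine le_antisymm ?_ (sup_le
    (Subgroup.closure_mono fun x hx => ⟨⟨(le_sup_left : L₁ ≤ J) hx.1.1, hx.1.2⟩, hx.2⟩)
    (Subgroup.closure_mono fun x hx => ⟨⟨(le_sup_right : L₂ ≤ J) hx.1.1, hx.1.2⟩, hx.2⟩))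
  set Q := J ⊓ C with hQ
  set R := Pel L₁ ⊔ Pel L₂ with hR
  have hTC : (T : Subgroup H) ≤ C := fun t ht z hz => (hz.1.2 t ht).symm
  have hle : ∀ L, L ≤ J → Pel L ≤ L ⊓ C := fun L _ => (Subgroup.closure_le _).mpr fun x hx => hx.1
  have hRQ : R ≤ Q := sup_le ((hle _ le_sup_left).trans (inf_le_inf_right _ le_sup_left))
    ((hle _ le_sup_right).trans (inf_le_inf_right _ le_sup_right))
  have hsub : ∀ L : Subgroup H, L.IsSubnormal → L ≤ J → ((Pel L).subgroupOf Q).IsSubnormal := by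
    intro L hL hLJ
    have hLQ : L ⊓ C ≤ Q := inf_le_inf_right _ hLJ
    have h1 : ((L ⊓ C).subgroupOf Q).IsSubnormal := by
      have e : (L ⊓ C).subgroupOf Q = L.subgroupOf Q := by
        ext x
        exact ⟨fun h => h.1, fun h => ⟨h, x.2.2⟩⟩
      rw [e]; exact hL.subgroupOf
    refine Subgroup.IsSubnormal.trans (Subgroup.comap_mono ((hle L hLJ))) ?_ h1
    refine Subgroup.Normal.isSubnormal ⟨fun n hn g => ?_⟩
    have key : Pel L ≤ (Pel L).comap (MulAut.conj ((g : Q) : H)).toMonoidHom :=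
      (Subgroup.closure_le _).mpr fun x hx => Subgroup.subset_closure
        ⟨mul_mem (mul_mem g.2 hx.1) (inv_mem g.2),
          hx.2.imp fun k hk => by
            rw [← hk]; exact (MulEquiv.orderOf_eq (MulAut.conj ((g : Q) : H)) x)⟩
    exact key hn
  have hRsn : (R.subgroupOf Q).IsSubnormal := by
    rw [Subgroup.subgroupOf_sup ((hle _ le_sup_left).trans (inf_le_inf_right _ le_sup_left))
      ((hle _ le_sup_right).trans (inf_le_inf_right _ le_sup_right))]
    exact CfsgLib.Subnormal.isSubnormal_sup (hsub _ h₁ le_sup_left) (hsub _ h₂ le_sup_right)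
  have hTR : (T : Subgroup H) ⊓ J ≤ R := by
    rw [inf_comm, hJ, CfsgLib.SubnormalSylow.sylow_inf_sup T h₁ h₂]
    refine sup_le_sup ?_ ?_ <;>
    · intro x hx
      obtain ⟨k, hk⟩ := IsPGroup.iff_orderOf.mp T.2 ⟨x, hx.2⟩
      exact Subgroup.subset_closure ⟨⟨hx.1, hTC hx.2⟩, k, by rw [← hk, Subgroup.orderOf_mk]⟩
  have hidx : ¬ p ∣ (R.subgroupOf Q).index := by
    intro hd
    have h1 : R.relIndex Q ∣ ((T : Subgroup H) ⊓ J).relIndex J := by
      have h2 := Subgroup.relIndex_mul_relIndex _ R Q hTR hRQ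
      have h3 := Subgroup.relIndex_mul_relIndex _ Q J (hTR.trans hRQ) inf_le_left
      exact (Dvd.intro_left _ h2).trans (Dvd.intro _ h3)
    rw [Subgroup.inf_relIndex_right] at h1
    exact CfsgLib.CharCore.not_dvd_relIndex_of_isSubnormal hsn T (hd.trans h1)
  refine (Subgroup.closure_le _).mpr fun x hx => ?_
  have h4 : (⟨x, hx.1⟩ : Q) ∈ R.subgroupOf Q := mem_of_subnormal_of_not_dvd hRsn hidx
    (hx.2.imp fun k hk => by rw [Subgroup.orderOf_mk]; exact hk)
  exact h4

end CfsgLib.PointStabilizer
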